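import Cfsg.Agent.Lib.HallGen.PrimeGraphBC.Orthogonal
import Cfsg.Agent.Lib.Classical.CharTwo.StandardSigns
import Cfsg.Agent.Lib.Classical.CharTwo.OmegaClasses
import Cfsg.Agent.Lib.Classical.Symplectic.Geometry

/-!
# Quadratic spaces in characteristic two: signs and blocks
-/

set_option autoImplicit false

namespace CfsgLib.HallGen.SpEightSpectrum

open Module
open QuadraticMap (polar polarBilin)
open CfsgLib.Classical CfsgLib.Classical.Quad CfsgLib.Classical.CharTwo
open CfsgLib.HallGen.PrimeGraphBC (prodHom conjHom prodHom_injective conjHom_injective nondeg_prod exists_unit_order)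

variable {F : Type*} [Field F] [CharP F 2] [Fintype F]
variable {V W : Type*} [AddCommGroup V] [Module F V] [AddCommGroup W] [Module F W]

local notation "qq" => Fintype.card F

omit [Fintype F] in
theorem polarBilin_isAlt (Q : QuadraticForm F V) : LinearMap.IsAlt (polarBilin Q) := fun x => by
  show polar Q x x = 0
  rw [polar_self', show (2 : F) = 0 from CharTwo.two_eq_zero, zero_mul]

theorem signSum_prod [Fintype V] [Fintype W] (Q : QuadraticForm F V) (R : QuadraticForm F W) :
    signSum ⇑(Q.prod R) = signSum ⇑Q * signSum ⇑R := by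
  unfold signSum
  rw [Fintype.sum_prod_type, Finset.sum_mul]
  refine Finset.sum_congr rfl fun x _ => ?_
  rw [Finset.mul_sum]
  refine Finset.sum_congr rfl fun y _ => ?_
  rw [QuadraticMap.prod_apply, psi_add]

/-- Non-degenerate forms of one dimension and one sign are isometric. -/
theorem exists_equiv [FiniteDimensional F V] [FiniteDimensional F W] [Fintype V] [Fintype W]
    {Q : QuadraticForm F V} {R : QuadraticForm F W}
    (hQ : (polarBilin Q).Nondegenerate) (hR : (polarBilin R).Nondegenerate)
    (hd : finrank F V = finrank F W) (hs : signSum ⇑Q = signSum ⇑R) :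
    ∃ E : V ≃ₗ[F] W, ∀ v, R (E v) = 1 * Q v := by
  haveI := Fact.mk Nat.prime_two
  obtain ⟨e, he⟩ := Symp.exists_isometry (polarBilin_isAlt Q) hQ (polarBilin_isAlt R) hR hd
  let D : V → F := fun v => R (e v) + Q v
  have hDadd : ∀ x y, D (x + y) = D x + D y := fun x y => by
    have h1 : polar R (e x) (e y) = polar Q x y := he x y
    show R (e (x + y)) + Q (x + y) = R (e x) + Q x + (R (e y) + Q y)
    rw [map_add, apply_add, apply_add, h1]
    linear_combination CharTwo.add_self_eq_zero (polar Q x y)
  have hDsmul : ∀ (c : F) x, D (c • x) = c ^ 2 * D x := fun c x => by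
    show R (e (c • x)) + Q (c • x) = _
    rw [map_smul, apply_smul, apply_smul]
    ring
  let φ := frobeniusEquiv F 2
  let ℓ : V →ₗ[F] F :=
    { toFun := fun v => φ.symm (D v)
      map_add' := fun x y => by rw [hDadd, map_add]
      map_smul' := fun c x => by
        rw [hDsmul, map_mul, RingHom.id_apply, smul_eq_mul]
        congr 1
        exact φ.symm_apply_eq.2 (by rw [frobeniusEquiv_apply, frobenius_def]) }
  obtain ⟨z, hz⟩ : ∃ z, ∀ v, polar Q v z = ℓ v := by
    refine ⟨(LinearMap.BilinForm.toDual (polarBilin Q) hQ).symm ℓ, fun v => ?_⟩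
    rw [QuadraticMap.polar_comm]
    exact LinearMap.BilinForm.apply_toDual_symm_apply (B := polarBilin Q) (hB := hQ) ℓ v
  have hRe : ∀ v, R (e v) = Q v + polar Q v z ^ 2 := fun v => by
    rw [hz]
    show _ = Q v + φ.symm (D v) ^ 2
    have h := φ.apply_symm_apply (D v)
    rw [frobeniusEquiv_apply, frobenius_def] at h
    rw [h]
    show R (e v) = Q v + (R (e v) + Q v)
    linear_combination (-1 : F) * CharTwo.add_self_eq_zero (Q v)
  have h1 : signSum ⇑R = psi (Q z) * signSum ⇑Q := by
    rw [← signSum_shift Q z]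
    unfold signSum
    rw [← Equiv.sum_comp e.toEquiv]
    exact Finset.sum_congr rfl fun v _ => congrArg psi (hRe v)
  have hpsi : psi (Q z) = 1 := by
    refine mul_right_cancel₀ (signSum_ne_zero hQ) ?_
    rw [← h1, hs, one_mul]
  obtain ⟨x₀, hx₀⟩ := psi_eq_one_iff.1 hpsi
  obtain ⟨x, hx0, hx⟩ : ∃ x : F, x ≠ 0 ∧ x ^ 2 + x = Q z := by
    by_cases h : x₀ = 0
    · refine ⟨1, one_ne_zero, ?_⟩
      rw [← hx₀, h]
      linear_combination CharTwo.add_self_eq_zero (1 : F)
    · exact ⟨x₀, h, hx₀⟩
  set t := x⁻¹ with ht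
  have htx : t ^ 2 * Q z + t = 1 := by
    have e : t * x = 1 := inv_mul_cancel₀ hx0
    rw [← hx]
    linear_combination (t * x + 1 + t) * e + CharTwo.add_self_eq_zero t
  let T : V →ₗ[F] V := LinearMap.id + ((t • polarBilin Q z).smulRight z)
  have hT : ∀ v, T v = v + (t * polar Q z v) • z := fun v => rfl
  have hTQ : ∀ v, Q (T v) = R (e v) := fun v => by
    rw [hT, apply_add, apply_smul, polar_smul_right', hRe, QuadraticMap.polar_comm (⇑Q) z v]
    linear_combination polar Q v z ^ 2 * htx
  have hTp : ∀ u v, polar Q (T u) (T v) = polar Q u v := fun u v => by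
    have h : polar R (e u) (e v) = polar Q u v := he u v
    rw [← h]
    simp only [polar, ← map_add, hTQ]
  have hTinj : Function.Injective T := by
    rw [injective_iff_map_eq_zero]
    exact fun u hu => hQ.1 u fun v => by
      show polar Q u v = 0
      rw [← hTp, hu]
      exact (polarBilin Q).map_zero₂ (T v)
  let T' := LinearEquiv.ofInjectiveEndo T hTinj
  refine ⟨T'.symm.trans e, fun v => ?_⟩
  show R (e (T'.symm v)) = _
  rw [← hTQ, one_mul]
  exact congrArg Q (T'.apply_symm_apply v)

/-- A torus block: `σ = -1` for order `q ^ d + 1`, `σ = 1` for `q ^ d - 1`. -/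
def blockOrder (q d : ℕ) (minus : Bool) : ℕ := if minus then q ^ d + 1 else q ^ d - 1

/-- The sign sum of a block. -/
def blockSign (q d : ℕ) (minus : Bool) : ℤ := if minus then -(q : ℤ) ^ d else (q : ℤ) ^ d

theorem psi_trace_onto {L : Type*} [Field L] [Algebra F L] [FiniteDimensional F L] {w : L} (hw : w ≠ 0) :
    ∃ y : L, psi (Algebra.trace F L (w * y)) = -1 := by
  haveI := Module.finite_of_finite F (M := L)
  obtain ⟨c, hc⟩ := exists_psi_neg (F := F)
  obtain ⟨z, hz⟩ := Algebra.trace_surjective F L c
  exact ⟨w⁻¹ * z, by rw [mul_inv_cancel_left₀ hw, hz, hc]⟩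

/-- Coordinates for a block. -/
theorem to_fin {d n : ℕ} {s : ℤ} [FiniteDimensional F V] [Fintype V] (hV : finrank F V = 2 * d) (Q : QuadraticForm F V)
    (hQ : (polarBilin Q).Nondegenerate) (hs : signSum ⇑Q = s) (g : OQ Q) (hg : orderOf g = n) :
    ∃ R : QuadraticForm F (Fin (2 * d) → F), (polarBilin R).Nondegenerate ∧ signSum ⇑R = s ∧
      ∃ g' : OQ R, orderOf g' = n := by
  let E := (Module.finBasisOfFinrankEq F V hV).equivFun
  let R := Q.comp (E.symm : (Fin (2 * d) → F) →ₗ[F] V)
  have h : ∀ v, R (E v) = 1 * Q v := fun v => by simp [R]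
  refine ⟨R, PrimeGraphBC.nondeg_comp hQ E.symm, ?_, conjHom E 1 h g,
    (orderOf_injective _ (conjHom_injective E 1 h) g).trans hg⟩
  rw [← hs]
  unfold signSum
  rw [← Equiv.sum_comp E.symm.toEquiv (fun v => psi (Q v))]
  rfl

theorem exists_block {d : ℕ} (hd : 1 ≤ d) (minus : Bool) :
    ∃ R : QuadraticForm F (Fin (2 * d) → F), (polarBilin R).Nondegenerate ∧
      signSum ⇑R = blockSign qq d minus ∧ ∃ g : OQ R, orderOf g = blockOrder qq d minus := by
  classical
  haveI := Fact.mk Nat.prime_two
  have h2 : ∀ x : F, x + x = 0 := CharTwo.add_self_eq_zero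
  cases minus
  · haveI : NeZero d := ⟨by omega⟩
    let L := FiniteField.Extension F 2 d
    haveI := Fintype.ofFinite L
    have hL : Fintype.card L = qq ^ d := by
      rw [← Nat.card_eq_fintype_card, FiniteField.natCard_extension, Nat.card_eq_fintype_card]
    have hf : finrank F (L × L) = 2 * d := by
      rw [Module.finrank_prod, FiniteField.finrank_extension F 2 d, two_mul]
    let B : LinearMap.BilinForm F (L × L) :=
      (Algebra.traceForm F L).compl₁₂ (LinearMap.fst F L L) (LinearMap.snd F L L)
    have hB : ∀ x y, B x y = Algebra.trace F L (x.1 * y.2) := fun _ _ => rfl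
    let Q : QuadraticForm F (L × L) := LinearMap.BilinMap.toQuadraticMap B
    have hQv : ∀ x, Q x = B x x := fun _ => rfl
    have hpol : ∀ x y, polar Q x y = Algebra.trace F L (x.1 * y.2) + Algebra.trace F L (y.1 * x.2) := fun x y => by
      show polar (LinearMap.BilinMap.toQuadraticMap B) x y = _
      rw [LinearMap.BilinMap.polar_toQuadraticMap, hB, hB]
    have hQ : (polarBilin Q).Nondegenerate := nondegenerate_of_left fun x hx => by
      refine Prod.ext ((traceForm_nondegenerate F L).1 _ fun y => ?_) ((traceForm_nondegenerate F L).2 _ fun y => ?_)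
      · have := hx (0, y)
        rw [hpol] at this
        simpa [Algebra.traceForm_apply] using this
      · have := hx (y, 0)
        rw [hpol] at this
        simpa [Algebra.traceForm_apply] using this
    have hs : signSum ⇑Q = blockSign qq d false := by
      unfold signSum
      rw [Fintype.sum_prod_type]
      have e : ∀ x : L, ∑ y : L, psi (Q (x, y)) = if x = 0 then ((qq : ℤ) ^ d) else 0 := fun x => by
        simp only [hQv, hB]
        split_ifs with hx
        · simp [hx, psi_zero, hL]
        · obtain ⟨y, hy⟩ := psi_trace_onto (F := F) hx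
          exact sum_psi_eq_zero (fun y => Algebra.trace F L (x * y)) (fun u v => by rw [mul_add, map_add])
            (a₀ := y) hy
      rw [Finset.sum_congr rfl fun x _ => e x, Finset.sum_ite_eq' Finset.univ (0 : L), if_pos (Finset.mem_univ _)]
      rfl
    let ρ : Lˣ →* OQ Q :=
      { toFun := fun a => ⟨LinearEquiv.prodCongr
            (LinearEquiv.ofLinear (LinearMap.mulLeft F (a : L)) (LinearMap.mulLeft F ((a⁻¹ : Lˣ) : L))
              (LinearMap.ext fun x => by simp) (LinearMap.ext fun x => by simp))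
            (LinearEquiv.ofLinear (LinearMap.mulLeft F ((a⁻¹ : Lˣ) : L)) (LinearMap.mulLeft F (a : L))
              (LinearMap.ext fun x => by simp) (LinearMap.ext fun x => by simp)), fun x _ => by
          show Q ((a : L) * x.1, ((a⁻¹ : Lˣ) : L) * x.2) = Q x
          rw [hQv, hQv, hB, hB]
          congr 1
          rw [mul_mul_mul_comm, Units.mul_inv, one_mul]⟩
        map_one' := Subtype.ext (LinearEquiv.ext fun x => Prod.ext (one_mul _) (by simp))
        map_mul' := fun a b => Subtype.ext (LinearEquiv.ext fun x => Prod.ext (mul_assoc (a : L) (b : L) x.1) (by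
          show (((a * b)⁻¹ : Lˣ) : L) * x.2 = ((a⁻¹ : Lˣ) : L) * (((b⁻¹ : Lˣ) : L) * x.2)
          rw [mul_inv, Units.val_mul, mul_assoc])) }
    have hρ : Function.Injective ρ := fun a b e => Units.ext (by
      have := congrArg Prod.fst (LinearEquiv.congr_fun (congrArg Subtype.val e) (1, 0))
      simpa [ρ] using this)
    obtain ⟨a, ha⟩ := exists_unit_order (K := L) (M := qq ^ d - 1) (hL.symm ▸ dvd_rfl)
    exact to_fin hf Q hQ hs (ρ a) (by rw [orderOf_injective ρ hρ, ha]; rfl)
  · haveI : NeZero (2 * d) := ⟨by omega⟩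
    let K := FiniteField.Extension F 2 (2 * d)
    haveI := Fintype.ofFinite K
    haveI : CharP K 2 := charP_of_injective_algebraMap (algebraMap F K).injective 2
    have hK : Fintype.card K = qq ^ (2 * d) := by
      rw [← Nat.card_eq_fintype_card, FiniteField.natCard_extension, Nat.card_eq_fintype_card]
    have hf : finrank F K = 2 * d := FiniteField.finrank_extension F 2 (2 * d)
    let σ : K ≃ₐ[F] K := FiniteField.frobeniusAlgEquivOfAlgebraic F K ^ d
    have hσ : ∀ x, σ x = x ^ qq ^ d := fun x => by
      show (FiniteField.frobeniusAlgEquivOfAlgebraic F K ^ d) x = _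
      rw [AlgEquiv.coe_pow, FiniteField.coe_frobeniusAlgEquivOfAlgebraic_iterate]
    have hσσ : ∀ x, σ (σ x) = x := fun x => by
      rw [hσ, hσ, ← pow_mul, ← pow_add, ← two_mul, ← hK, FiniteField.pow_card]
    obtain ⟨u, hu⟩ := IsCyclic.exists_ofOrder_eq_natCard (α := Kˣ)
    have hK' : Fintype.card K = (qq ^ d) ^ 2 := by rw [hK, ← pow_mul, mul_comm d 2]
    rw [Nat.card_units, Nat.card_eq_fintype_card, hK'] at hu
    have hQ1 : 1 < qq ^ d := Nat.one_lt_pow (by omega) Fintype.one_lt_card
    have hfac : (qq ^ d) ^ 2 - 1 = (qq ^ d + 1) * (qq ^ d - 1) := by rw [← Nat.sq_sub_sq, one_pow]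
    have hσu : (u : K) + σ (u : K) ≠ 0 := by
      intro h
      have h1 : σ (u : K) = u := (CharTwo.add_eq_zero.1 h).symm
      rw [hσ, ← Units.val_pow_eq_pow_val, Units.val_inj] at h1
      have h3 : u ^ (qq ^ d - 1) = 1 := by
        refine mul_right_cancel (b := u) ?_
        rw [← pow_succ, Nat.sub_add_cancel hQ1.le, h1, one_mul]
      have h4 := Nat.le_of_dvd (by omega) (orderOf_dvd_of_pow_eq_one h3)
      rw [hu, hfac] at h4
      have := Nat.mul_le_mul_right (qq ^ d - 1) (show 2 ≤ qq ^ d + 1 by omega)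
      omega
    set ω := (u : K) / ((u : K) + σ (u : K)) with hω
    have hω1 : ω + σ ω = 1 := by
      rw [hω, map_div₀, map_add, hσσ, add_comm (σ (u : K)) (u : K), ← add_div, div_self hσu]
    let B : LinearMap.BilinForm F K :=
      LinearMap.comp (Algebra.traceForm F K) ((LinearMap.mulLeft F ω).comp σ.toLinearMap)
    have hB : ∀ x y, B x y = Algebra.trace F K (ω * σ x * y) := fun _ _ => rfl
    let Q : QuadraticForm F K := LinearMap.BilinMap.toQuadraticMap B
    have hQv : ∀ x, Q x = B x x := fun _ => rfl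
    have hpol : ∀ x y, polar Q x y = Algebra.trace F K (σ x * y) := fun x y => by
      show polar (LinearMap.BilinMap.toQuadraticMap B) x y = _
      rw [LinearMap.BilinMap.polar_toQuadraticMap, hB, hB]
      have h4 : Algebra.trace F K (ω * σ y * x) = Algebra.trace F K (σ ω * (σ x * y)) := by
        conv_lhs => rw [← Algebra.trace_eq_of_algEquiv σ (ω * σ y * x), map_mul σ, map_mul σ, hσσ]
        congr 1
        ring
      rw [h4, mul_assoc, ← map_add, ← add_mul, hω1, one_mul]
    have hQ : (polarBilin Q).Nondegenerate := nondegenerate_of_left fun x hx => by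
      refine σ.injective (((traceForm_nondegenerate F K).1 _ fun y => ?_).trans (map_zero σ).symm)
      exact (hpol x y).symm.trans (hx y)
    have hQpow : ∀ x, Q x = Algebra.trace F K (ω * x ^ (qq ^ d + 1)) := fun x => by
      rw [hQv, hB, hσ, mul_assoc, ← pow_succ]
    have hs : signSum ⇑Q = blockSign qq d true := by
      have hsq := signSum_sq hQ
      rw [hK'] at hsq
      let φ : Kˣ →* Kˣ := powMonoidHom (qq ^ d + 1)
      have hker : ((qq ^ d + 1 : ℕ) : ℤ) ∣ ∑ y : Kˣ, psi (Q (y : K)) := by
        have e : ∀ y : Kˣ, psi (Q (y : K)) = (fun z : Kˣ => psi (Algebra.trace F K (ω * (z : K)))) (φ y) := fun y => by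
          simp only [hQpow, φ, powMonoidHom_apply, Units.val_pow_eq_pow_val]
        rw [Finset.sum_congr rfl fun y _ => e y]
        rw [Finset.sum_comp (fun z : Kˣ => psi (Algebra.trace F K (ω * (z : K)))) φ]
        refine Finset.dvd_sum fun z hz => ?_
        obtain ⟨y, -, hy⟩ := Finset.mem_image.1 hz
        have hcardk : Nat.card φ.ker = qq ^ d + 1 := by
          rw [IsCyclic.card_powMonoidHom_ker, Nat.card_units, Nat.card_eq_fintype_card, hK', hfac]
          exact Nat.gcd_eq_right (dvd_mul_right _ _)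
        have hfib : (Finset.univ.filter fun a : Kˣ => φ a = z).card = qq ^ d + 1 := by
          rw [← hcardk, Nat.card_eq_fintype_card]
          rw [← Finset.card_univ]
          refine Finset.card_bij' (fun a _ => (⟨a * y⁻¹, ?_⟩ : φ.ker)) (fun k _ => (k : Kˣ) * y)
            (fun a _ => Finset.mem_univ _) (fun k _ => ?_) (fun a _ => by simp) (fun k _ => Subtype.ext (by simp))
          · rename_i ha
            rw [MonoidHom.mem_ker, map_mul, map_inv, (Finset.mem_filter.1 ha).2, hy, mul_inv_cancel]
          · refine Finset.mem_filter.2 ⟨Finset.mem_univ _, ?_⟩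
            rw [map_mul, MonoidHom.mem_ker.1 k.2, one_mul, hy]
        rw [hfib, nsmul_eq_mul]
        exact dvd_mul_right _ _
      have hsplit : signSum ⇑Q = 1 + ∑ y : Kˣ, psi (Q (y : K)) := by
        unfold signSum
        rw [← Finset.add_sum_erase Finset.univ _ (Finset.mem_univ (0 : K)), QuadraticMap.map_zero, psi_zero]
        congr 1
        exact (Finset.sum_bij' (fun (y : Kˣ) _ => (y : K)) (fun x hx => Units.mk0 x (Finset.mem_erase.1 hx).1)
          (fun y _ => Finset.mem_erase.2 ⟨y.ne_zero, Finset.mem_univ _⟩) (fun x _ => Finset.mem_univ _)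
          (fun y _ => Units.ext rfl) (fun x _ => rfl) (fun y _ => rfl)).symm
      have hsq' : signSum ⇑Q * signSum ⇑Q = (qq : ℤ) ^ d * (qq : ℤ) ^ d := by
        rw [hsq, pow_two]
        push_cast
        ring
      rcases mul_self_eq_mul_self_iff.1 hsq' with h | h
      · exfalso
        obtain ⟨c, hc⟩ := hker
        rw [h] at hsplit
        push_cast at hc
        have hq1 : (1 : ℤ) < (qq : ℤ) ^ d := by exact_mod_cast hQ1
        have hq2 : Even ((qq : ℤ) ^ d) := by
          have h2d : 2 ∣ qq := by
            obtain ⟨n, -, hn⟩ := FiniteField.card F 2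
            exact hn ▸ dvd_pow_self 2 n.pos.ne'
          exact Int.even_pow.2 ⟨by exact_mod_cast (even_iff_two_dvd.2 h2d), by omega⟩
        obtain ⟨k, hk⟩ := hq2
        have h5 : ((qq : ℤ) ^ d + 1) ∣ 2 := ⟨1 - c, by linear_combination (-1 : ℤ) * hsplit + (-1 : ℤ) * hc⟩
        have := Int.le_of_dvd two_pos h5
        omega
      · exact h
    let N : Subgroup Kˣ := (powMonoidHom (qq ^ d + 1) : Kˣ →* Kˣ).ker
    have hN : ∀ a : N, σ ((a : Kˣ) : K) * ((a : Kˣ) : K) = 1 := fun a => by
      rw [hσ, ← pow_succ, ← Units.val_pow_eq_pow_val]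
      exact congrArg Units.val (show (a : Kˣ) ^ (qq ^ d + 1) = 1 from a.2)
    let ρ : N →* OQ Q :=
      { toFun := fun a => ⟨LinearEquiv.ofLinear (LinearMap.mulLeft F ((a : Kˣ) : K))
            (LinearMap.mulLeft F (((a : Kˣ)⁻¹ : Kˣ) : K)) (LinearMap.ext fun x => by simp)
            (LinearMap.ext fun x => by simp), fun x _ => by
          show Q (((a : Kˣ) : K) * x) = Q x
          rw [hQv, hQv, hB, hB, map_mul σ]
          congr 1
          linear_combination (ω * σ x * x) * hN a⟩
        map_one' := Subtype.ext (LinearEquiv.ext fun x => one_mul x)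
        map_mul' := fun a b => Subtype.ext (LinearEquiv.ext fun x => mul_assoc ((a : Kˣ) : K) ((b : Kˣ) : K) x) }
    have hρ : Function.Injective ρ := fun a b e => Subtype.ext (Units.ext (by
      have := LinearEquiv.congr_fun (congrArg Subtype.val e) 1
      simpa [ρ] using this))
    obtain ⟨a, ha⟩ := exists_unit_order (K := K) (M := qq ^ d + 1) (by
      rw [hK', hfac]
      exact dvd_mul_right _ _)
    have haN : a ∈ N := orderOf_dvd_iff_pow_eq_one.1 (ha.symm ▸ dvd_rfl)
    exact to_fin hf Q hQ hs (ρ ⟨a, haN⟩) (by rw [orderOf_injective ρ hρ, Subgroup.orderOf_mk, ha]; rfl)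

end CfsgLib.HallGen.SpEightSpectrum
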