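import Cfsg.Agent.Lib.HallGen.SpEightSpectrum.Blocks
import Cfsg.Agent.Lib.HallGen.PrimeGraphBC.Isometries

/-!
# Orders of isometries in dimension eight are covered
-/

set_option autoImplicit false

namespace CfsgLib.HallGen.SpEightSpectrum

open Module Polynomial
open CfsgLib.HallGen.PrimeGraphBC (split iso_pow)

variable {F V : Type*} [Field F] [CharP F 2] [AddCommGroup V] [Module F V] [FiniteDimensional F V]

omit [FiniteDimensional F V] in
theorem sub_one_pow_two_pow [Nontrivial V] (T : Module.End F V) (j : ℕ) : (T - 1) ^ 2 ^ j = T ^ 2 ^ j - 1 := by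
  haveI : CharP (Module.End F V) 2 := charP_of_injective_algebraMap (algebraMap F _).injective 2
  haveI := Fact.mk Nat.prime_two
  rw [sub_pow_char_pow_of_commute 2 j (Commute.one_right _), one_pow]

omit [CharP F 2] in
theorem nilpotent_pow_finrank {T : Module.End F V} (hT : IsNilpotent T) {k : ℕ} (hk : finrank F V ≤ k) : T ^ k = 0 := by
  have h := LinearMap.aeval_self_charpoly T
  rw [hT.charpoly_eq_X_pow_finrank, map_pow, aeval_X] at h
  exact pow_eq_zero_of_le hk h

omit [CharP F 2] in
/-- A nilpotent map with a kernel of dimension at least two dies one step early. -/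
theorem nilpotent_two_kernel {T : Module.End F V} (hT : IsNilpotent T) (h : 2 ≤ finrank F (LinearMap.ker T)) :
    T ^ (finrank F V - 1) = 0 := by
  set W := LinearMap.range T
  have hW : ∀ w ∈ W, T w ∈ W := fun w _ => ⟨w, rfl⟩
  have hn : IsNilpotent (T.restrict hW) := by
    obtain ⟨k, hk⟩ := hT
    refine ⟨k, LinearMap.ext fun w => Subtype.ext ?_⟩
    rw [Module.End.pow_restrict k, LinearMap.restrict_coe_apply, hk]
    rfl
  have h1 := LinearMap.finrank_range_add_finrank_ker T
  have h2 : (T.restrict hW) ^ (finrank F V - 2) = 0 := nilpotent_pow_finrank hn (by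
    show finrank F W ≤ _
    have : finrank F W = finrank F (LinearMap.range T) := rfl
    omega)
  refine LinearMap.ext fun v => ?_
  rw [show finrank F V - 1 = finrank F V - 2 + 1 by omega, pow_succ, Module.End.mul_apply]
  have h3 := congrArg Subtype.val (LinearMap.congr_fun h2 ⟨T v, ⟨v, rfl⟩⟩)
  rw [Module.End.pow_restrict (finrank F V - 2), LinearMap.restrict_coe_apply] at h3
  exact h3

omit [CharP F 2] [FiniteDimensional F V] in
theorem restrict_pow_one (T : Module.End F V) {W : Submodule F V} (hW : ∀ w ∈ W, T w ∈ W) {k : ℕ}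
    (h : ∀ w ∈ W, (T ^ k) w = w) : (T.restrict hW) ^ k = 1 := LinearMap.ext fun w => Subtype.ext (by
  rw [Module.End.pow_restrict k, LinearMap.restrict_coe_apply]
  exact h w w.2)

variable [Fintype F]

local notation "qq" => Nat.card F

/-- The covering for an isometry, and for its double when it is realised by a translation. -/
theorem cover (B : V →ₗ[F] V →ₗ[F] F) (hnd : ∀ x, (∀ y, B x y = 0) → x = 0)
    (hrefl : ∀ x y, B x y = 0 → B y x = 0) (hV : finrank F V = 8) (g : Module.End F V)
    (hiso : ∀ x y, B (g x) (g y) = B x y) (hg : 0 < orderOf g) :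
    Covered qq (orderOf g) ∧
      ∀ v, (∑ i ∈ Finset.range (orderOf g), g ^ i) v ≠ 0 → Even (finrank F (LinearMap.ker (g - 1))) →
        Covered qq (2 * orderOf g) := by
  haveI : Fact (Nat.Prime 2) := ⟨Nat.prime_two⟩
  haveI : Nontrivial V := Module.nontrivial_of_finrank_pos (R := F) (by omega)
  obtain ⟨a, M, hM2, ho⟩ := Nat.exists_eq_pow_mul_and_not_dvd hg.ne' 2 (by norm_num)
  have hMo : Odd M := Nat.odd_iff.2 (Nat.two_dvd_ne_zero.1 hM2)
  have hMF : (M : F) ≠ 0 := fun h => hM2 ((CharP.cast_eq_zero_iff F 2 M).1 h)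
  rw [ho]
  set S := g ^ 2 ^ a with hS
  have hSM : S ^ M = 1 := by rw [hS, ← pow_mul, ← ho, pow_orderOf_eq_one]
  set u := g ^ M with hu
  have hu2 : u ^ 2 ^ a = 1 := by rw [hu, ← pow_mul, mul_comm, ← ho, pow_orderOf_eq_one]
  have hSu : Commute S u := (Commute.refl g).pow_pow _ _
  have hSiso : ∀ x y, B (S x) (S y) = B x y := iso_pow B hiso _
  obtain ⟨hc, -, hndW, hinv, hfix⟩ := split B hnd hrefl S hSiso hMF hSM
  set W' := LinearMap.range (S - 1) with hW'
  set W := LinearMap.ker (S - 1) with hWdef
  have hSW : ∀ w ∈ W, S w = w := fun w hw => by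
    have : S w - w = 0 := hw
    exact sub_eq_zero.1 this
  let S' : Module.End F W' := S.restrict (hinv S (Commute.refl S)).1
  let u' : Module.End F W' := u.restrict (hinv u hSu.symm).1
  have hS'M : S' ^ M = 1 := restrict_pow_one S _ fun w _ => by rw [hSM]; rfl
  have hu'2 : u' ^ 2 ^ a = 1 := restrict_pow_one u _ fun w _ => by rw [hu2]; rfl
  have hnil : IsNilpotent (u' - 1) := by
    rcases subsingleton_or_nontrivial W' with h | h
    · exact ⟨1, Subsingleton.elim _ _⟩
    · exact ⟨2 ^ a, by rw [sub_one_pow_two_pow, hu'2, sub_self]⟩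
  obtain ⟨l, hl1, hl2, hl3⟩ := exists_pieces (p := 2) (B.compl₁₂ W'.subtype W'.subtype)
    (fun x hx => Subtype.ext (hndW x x.2 fun y hy => hx ⟨y, hy⟩)) S' (u' - 1) hMo hMF hS'M
    (fun x y => hSiso x y) (fun x hx => Subtype.ext (hfix x x.2 (congrArg Subtype.val hx))) hnil
    ((show Commute S' u' from LinearMap.ext fun w => Subtype.ext
      (show S (u (w : V)) = u (S (w : V)) from LinearMap.congr_fun hSu.eq (w : V))).sub_right (Commute.one_right _))
  have hdim := Submodule.finrank_add_eq_of_isCompl hc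
  rw [hV, ← hl1] at hdim
  have hm : wt l ≤ 4 := by omega
  have hWd : finrank F W = 2 * (4 - wt l) := by omega
  have hdecomp : ∀ v : V, ∃ x ∈ W', ∃ y ∈ W, v = x + y := fun v => by
    obtain ⟨x, hx, y, hy, rfl⟩ := Submodule.mem_sup.1 ((codisjoint_iff.1 hc.2).ge (Submodule.mem_top (x := v)))
    exact ⟨x, hx, y, hy, rfl⟩
  have hMdvd : M ∣ tor l := by
    have hS'T : S ^ tor l = 1 := LinearMap.ext fun v => by
      obtain ⟨x, hx, y, hy, rfl⟩ := hdecomp v
      have h1 := congrArg Subtype.val (LinearMap.congr_fun hl2 ⟨x, hx⟩)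
      rw [Module.End.pow_restrict (tor l), LinearMap.restrict_coe_apply] at h1
      have h2 : ∀ j : ℕ, (S ^ j) y = y := fun j => by
        induction j with
        | zero => rfl
        | succ j ih => rw [pow_succ, Module.End.mul_apply, hSW y hy, ih]
      rw [map_add, h2]
      show _ = x + y
      exact congrArg (· + y) h1
    have h3 : orderOf g ∣ 2 ^ a * tor l := orderOf_dvd_of_pow_eq_one (by rw [pow_mul, ← hS, hS'T])
    rw [ho] at h3
    exact Nat.dvd_of_mul_dvd_mul_left (by positivity) h3
  have hcov : ∀ e K : ℕ, (K ≤ 2 * (4 - wt l) ∨ ∃ x ∈ l, K ≤ x.c) → (e = 0 ∨ 2 ^ (e - 1) < K) →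
      Covered qq (2 ^ e * M) := fun e K hK he =>
    (covered (l := l) le_rfl hm hK he).mono (by rw [mul_comm]; exact mul_dvd_mul_right hMdvd _)
  refine ⟨?_, fun v hv hev => ?_⟩
  · -- the unipotent part
    rcases Nat.eq_zero_or_pos a with rfl | ha
    · exact hcov 0 0 (Or.inl (Nat.zero_le _)) (Or.inl rfl)
    set t := 2 ^ (a - 1) with ht
    have hne : (u - 1) ^ t ≠ 0 := by
      rw [ht, sub_one_pow_two_pow, sub_ne_zero, hu, ← pow_mul]
      intro h
      have h1 := Nat.le_of_dvd (Nat.mul_pos hMo.pos (pow_pos two_pos _)) (orderOf_dvd_of_pow_eq_one h)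
      rw [ho, mul_comm] at h1
      have h2 := Nat.le_of_mul_le_mul_left h1 hMo.pos
      have h3 := Nat.pow_lt_pow_right one_lt_two (show a - 1 < a by omega)
      omega
    have hK : t + 1 ≤ 2 * (4 - wt l) ∨ ∃ x ∈ l, t + 1 ≤ x.c := by
      by_contra hcon
      push Not at hcon
      refine hne (LinearMap.ext fun v => ?_)
      obtain ⟨x, hx, y, hy, rfl⟩ := hdecomp v
      have h1 : (u' - 1) ^ t = 0 := hl3 t fun z hz => Nat.le_of_lt_succ (hcon.2 z hz)
      have hsub : ∀ (T : Submodule F V) (hT : ∀ w ∈ T, u w ∈ T) (j : ℕ) (w : T),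
          ((((u.restrict hT - 1) ^ j) w : T) : V) = ((u - 1) ^ j) (w : V) := by
        intro T hT j
        induction j with
        | zero => intro w; rfl
        | succ j ih =>
          intro w
          rw [pow_succ, pow_succ, Module.End.mul_apply, Module.End.mul_apply, ih]
          rfl
      have hy' : ((u.restrict (hinv u hSu.symm).2 - 1) ^ t) = 0 := by
        refine nilpotent_pow_finrank ?_ ?_
        · rcases subsingleton_or_nontrivial W with h | h
          · exact ⟨1, Subsingleton.elim _ _⟩
          · exact ⟨2 ^ a, by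
              rw [sub_one_pow_two_pow, restrict_pow_one u _ fun w _ => by rw [hu2]; rfl, sub_self]⟩
        · show finrank F W ≤ t
          omega
      have e1 := hsub W' (hinv u hSu.symm).1 t ⟨x, hx⟩
      have e2 := hsub W (hinv u hSu.symm).2 t ⟨y, hy⟩
      rw [h1] at e1
      rw [hy'] at e2
      show ((u - 1) ^ t) (x + y) = 0
      rw [map_add, ← e1, ← e2]
      simp
    exact hcov a (t + 1) hK (Or.inr (Nat.lt_succ_self t))
  · -- the translation
    haveI : CharP F[X] 2 := inferInstance
    have hgeo : (∑ i ∈ Finset.range (2 ^ a), (X : F[X]) ^ i) = (X - 1) ^ (2 ^ a - 1) := by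
      have h1 : (∑ i ∈ Finset.range (2 ^ a), (X : F[X]) ^ i) * (X - 1) = (X - 1) ^ (2 ^ a - 1) * (X - 1) := by
        rw [geom_sum_mul, ← pow_succ, Nat.sub_add_cancel Nat.one_le_two_pow, sub_pow_char_pow, one_pow]
      exact mul_right_cancel₀ (show (X - 1 : F[X]) ≠ 0 by simpa using X_sub_C_ne_zero (1 : F)) h1
    have hsum : (∑ i ∈ Finset.range (2 ^ a * M), (X : F[X]) ^ i) =
        (X - 1) ^ (2 ^ a - 1) * ∑ j ∈ Finset.range M, ((X : F[X]) ^ 2 ^ a) ^ j := by
      have hne : (X - 1 : F[X]) ≠ 0 := by simpa using X_sub_C_ne_zero (1 : F)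
      refine mul_right_cancel₀ hne ?_
      rw [geom_sum_mul, mul_right_comm, ← pow_succ, Nat.sub_add_cancel Nat.one_le_two_pow, sub_pow_char_pow,
        one_pow, mul_geom_sum, ← pow_mul]
    have hgs := congrArg (aeval g) hsum
    simp only [map_sum, map_pow, map_mul, map_sub, aeval_X, map_one] at hgs
    rw [hgs, Module.End.mul_apply] at hv
    set w := (∑ j ∈ Finset.range M, (g ^ 2 ^ a) ^ j) v with hw
    have hwW : w ∈ W := by
      show (S - 1) w = 0
      rw [hw, ← Module.End.mul_apply, ← hS, mul_geom_sum, hSM, sub_self]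
      rfl
    have hgW : ∀ x ∈ W, g x ∈ W := (hinv g (Commute.pow_self g _).symm).2
    let gW : Module.End F W := g.restrict hgW
    haveI : Nontrivial W := Submodule.nontrivial_iff_ne_bot.2 fun h => hv (by
      rw [h, Submodule.mem_bot] at hwW
      rw [hwW, map_zero])
    have hgW2 : gW ^ 2 ^ a = 1 := restrict_pow_one g _ fun x hx => hSW x hx
    have hnW : IsNilpotent (gW - 1) := ⟨2 ^ a, by rw [sub_one_pow_two_pow, hgW2, sub_self]⟩
    have hker : finrank F (LinearMap.ker (gW - 1)) = finrank F (LinearMap.ker (g - 1)) := by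
      have hle : LinearMap.ker (g - 1) ≤ W := fun x hx => by
        have hx' : g x = x := sub_eq_zero.1 hx
        show (S - 1) x = 0
        have : ∀ j : ℕ, (g ^ j) x = x := fun j => by
          induction j with
          | zero => rfl
          | succ j ih => rw [pow_succ, Module.End.mul_apply, hx', ih]
        rw [LinearMap.sub_apply, hS, this, Module.End.one_apply, sub_self]
      rw [← Submodule.finrank_map_subtype_eq W (LinearMap.ker (gW - 1))]
      suffices h : (LinearMap.ker (gW - 1)).map W.subtype = LinearMap.ker (g - 1) by rw [h]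
      ext x
      constructor
      · rintro ⟨y, hy, rfl⟩
        exact congrArg Subtype.val hy
      · exact fun hx => ⟨⟨x, hle hx⟩, Subtype.ext hx, rfl⟩
    have h2le : 2 ≤ finrank F (LinearMap.ker (gW - 1)) := by
      have hne : LinearMap.ker (gW - 1) ≠ ⊥ := fun h => by
        obtain ⟨j, hj⟩ := hnW
        obtain ⟨x, hx⟩ := exists_ne (0 : W)
        refine hx (?_)
        have hinj : Function.Injective ((gW - 1) ^ j : Module.End F W) := by
          rw [Module.End.coe_pow]
          exact Function.Injective.iterate (LinearMap.ker_eq_bot.1 h) j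
        exact hinj (by rw [hj]; rfl)
      have h1 : finrank F (LinearMap.ker (gW - 1)) ≠ 0 := fun h => hne (Submodule.finrank_eq_zero.1 h)
      rw [hker] at h1 ⊢
      obtain ⟨c, hc⟩ := hev
      omega
    have hz := nilpotent_two_kernel hnW h2le
    have hlt : 2 ^ a - 1 < finrank F W - 1 := by
      by_contra hle
      have h1 := pow_eq_zero_of_le (not_lt.1 hle) hz
      have hsub : ∀ (j : ℕ) (x : W), ((((gW - 1) ^ j) x : W) : V) = ((g - 1) ^ j) (x : V) := by
        intro j
        induction j with
        | zero => intro x; rfl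
        | succ j ih =>
          intro x
          rw [pow_succ, pow_succ, Module.End.mul_apply, Module.End.mul_apply, ih]
          rfl
      refine hv ?_
      rw [← hsub (2 ^ a - 1) ⟨w, hwW⟩, h1]
      rfl
    refine (hcov (a + 1) (2 * (4 - wt l)) (Or.inl le_rfl) (Or.inr ?_)).mono (by rw [pow_succ]; ring_nf; exact dvd_rfl)
    simp only [Nat.add_sub_cancel]
    have := Nat.one_le_two_pow (n := a)
    omega

end CfsgLib.HallGen.SpEightSpectrum
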