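import Mathlib

/-!
# Twelve orders covering all element orders of `Sp(8, 2^k)`
-/

set_option autoImplicit false

namespace CfsgLib.HallGen.SpEightSpectrum

/-- A torus piece: degree, multiplicity, cyclic order bound. -/
structure Piece (q : ℕ) where
  d : ℕ
  c : ℕ
  t : ℕ
  hd : 1 ≤ d
  hc : 1 ≤ c
  ht : t = q ^ d + 1 ∨ t = q ^ d - 1

variable {q : ℕ}

/-- Half the dimension used by a list of pieces. -/
def wt (l : List (Piece q)) : ℕ := (l.map fun x => x.d * x.c).sum

/-- The order bound of a list of pieces. -/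
def tor (l : List (Piece q)) : ℕ := l.foldr (fun x r => Nat.lcm x.t r) 1

theorem wt_cons (x : Piece q) (l : List (Piece q)) : wt (x :: l) = x.d * x.c + wt l := by simp [wt]

theorem tor_cons (x : Piece q) (l : List (Piece q)) : tor (x :: l) = Nat.lcm x.t (tor l) := rfl

theorem tor_dvd {l : List (Piece q)} {L : ℕ} (h : ∀ x ∈ l, x.t ∣ L) : tor l ∣ L := by
  induction l with
  | nil => exact one_dvd _
  | cons x l ih =>
    exact Nat.lcm_dvd (h x List.mem_cons_self) (ih fun y hy => h y (List.mem_cons_of_mem _ hy))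

theorem one_le_prod (x : Piece q) : 1 ≤ x.d * x.c := Nat.mul_pos x.hd x.hc

theorem piece_bound {l : List (Piece q)} {x : Piece q} (hx : x ∈ l) : x.d ≤ wt l ∧ x.c ≤ wt l := by
  induction l with
  | nil => simp at hx
  | cons y l ih =>
    rw [wt_cons]
    rcases List.mem_cons.1 hx with rfl | hx
    · have h1 := Nat.le_mul_of_pos_right x.d x.hc
      have h2 := Nat.le_mul_of_pos_left x.c x.hd
      omega
    · have := ih hx
      omega

theorem split_piece {l : List (Piece q)} {x : Piece q} (hx : x ∈ l) :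
    ∃ l', x.d * x.c + wt l' = wt l ∧ tor l ∣ Nat.lcm x.t (tor l') ∧ ∀ y ∈ l', y ∈ l := by
  induction l with
  | nil => simp at hx
  | cons y l ih =>
    rcases List.mem_cons.1 hx with rfl | hx
    · exact ⟨l, (wt_cons _ _).symm, dvd_rfl, fun z hz => List.mem_cons_of_mem _ hz⟩
    · obtain ⟨l', h1, h2, h3⟩ := ih hx
      refine ⟨y :: l', ?_, ?_, fun z hz => ?_⟩
      · rw [wt_cons, wt_cons]; omega
      · rw [tor_cons, tor_cons]
        exact Nat.lcm_dvd ((Nat.dvd_lcm_left _ _).trans (Nat.dvd_lcm_right _ _))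
          (h2.trans (Nat.lcm_dvd (Nat.dvd_lcm_left _ _) ((Nat.dvd_lcm_right _ _).trans (Nat.dvd_lcm_right _ _))))
      · rcases List.mem_cons.1 hz with rfl | hz
        exacts [List.mem_cons_self, List.mem_cons_of_mem _ (h3 z hz)]

theorem sq_sub_one (x : ℕ) : x ^ 2 - 1 = (x + 1) * (x - 1) := by
  rw [← Nat.sq_sub_sq, one_pow]

theorem deg_one (x : Piece q) (h : x.d = 1) : x.t = q + 1 ∨ x.t = q - 1 := by
  have := x.ht
  rwa [h, pow_one] at this

theorem deg_one_dvd (x : Piece q) (h : x.d = 1) : x.t ∣ q ^ 2 - 1 := by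
  rw [sq_sub_one]
  rcases deg_one x h with e | e <;> rw [e]
  exacts [dvd_mul_right _ _, dvd_mul_left _ _]

theorem all_ones {l : List (Piece q)} (h : ∀ x ∈ l, x.d = 1) : tor l ∣ q ^ 2 - 1 :=
  tor_dvd fun x hx => deg_one_dvd x (h x hx)

theorem all_le_two {l : List (Piece q)} (h : ∀ x ∈ l, x.d ≤ 2) : tor l ∣ q ^ 4 - 1 := by
  refine tor_dvd fun x hx => ?_
  have h4 : q ^ 4 - 1 = (q ^ 2 + 1) * (q ^ 2 - 1) := by rw [← sq_sub_one, ← pow_mul]
  rw [h4]
  have := x.hd
  rcases (show x.d = 1 ∨ x.d = 2 by have := h x hx; omega) with hd | hd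
  · exact (deg_one_dvd x hd).trans (dvd_mul_left _ _)
  · rcases x.ht with e | e <;> rw [e, hd]
    exacts [dvd_mul_right _ _, dvd_mul_left _ _]

theorem wt_zero {l : List (Piece q)} (h : wt l = 0) : tor l = 1 := by
  cases l with
  | nil => rfl
  | cons x l =>
    rw [wt_cons] at h
    have := one_le_prod x
    omega

theorem wt_one {l : List (Piece q)} (h : wt l ≤ 1) : tor l ∣ q + 1 ∨ tor l ∣ q - 1 := by
  cases l with
  | nil => exact Or.inl (one_dvd _)
  | cons x l =>
    rw [wt_cons] at h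
    have h1 := one_le_prod x
    have hd : x.d = 1 := by
      have := piece_bound (l := x :: l) List.mem_cons_self
      rw [wt_cons] at this
      have := x.hd
      omega
    rw [tor_cons, wt_zero (l := l) (by omega), Nat.lcm_one_right]
    rcases deg_one x hd with e | e <;> rw [e]
    exacts [Or.inl dvd_rfl, Or.inr dvd_rfl]

theorem wt_two {l : List (Piece q)} (h : wt l ≤ 2) : tor l ∣ q ^ 2 + 1 ∨ tor l ∣ q ^ 2 - 1 := by
  by_cases hone : ∀ x ∈ l, x.d = 1
  · exact Or.inr (all_ones hone)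
  push Not at hone
  obtain ⟨x, hx, hxd⟩ := hone
  obtain ⟨l', h1, h2, -⟩ := split_piece hx
  have := piece_bound hx
  have := x.hd
  have hd : x.d = 2 := by omega
  have := Nat.le_mul_of_pos_right x.d x.hc
  rw [wt_zero (l := l') (by omega), Nat.lcm_one_right] at h2
  rcases x.ht with e | e <;> rw [e, hd] at h2
  exacts [Or.inl h2, Or.inr h2]

/-- The covering list. -/
def maxOrders (q : ℕ) : List ℕ :=
  [q ^ 4 + 1, q ^ 4 - 1, (q ^ 3 + 1) * (q - 1), (q ^ 3 - 1) * (q + 1),
    2 * (q ^ 3 + 1), 2 * (q ^ 3 - 1), 2 * ((q ^ 2 + 1) * (q + 1)), 2 * ((q ^ 2 + 1) * (q - 1)),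
    4 * (q ^ 2 + 1), 4 * (q ^ 2 - 1), 8 * (q + 1), 8 * (q - 1)]

/-- Divides one of the twelve orders. -/
def Covered (q n : ℕ) : Prop := ∃ L ∈ maxOrders q, n ∣ L

theorem Covered.mono {n n' : ℕ} (h : Covered q n) (hd : n' ∣ n) : Covered q n' := by
  obtain ⟨L, hL, hn⟩ := h
  exact ⟨L, hL, hd.trans hn⟩

/-- Pieces of degree at most two with one involution. -/
theorem mixed_two {l : List (Piece q)} (h : wt l ≤ 3) {x : Piece q} (hx : x ∈ l) (hd : x.d = 2) :
    Covered q (tor l * 2) := by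
  obtain ⟨l', h1, h2, -⟩ := split_piece hx
  have := Nat.le_mul_of_pos_right x.d x.hc
  rcases x.ht with e | e <;> rw [e, hd] at h2
  · rcases wt_one (l := l') (by omega) with hr | hr
    · refine Covered.mono ⟨2 * ((q ^ 2 + 1) * (q + 1)), by simp [maxOrders], dvd_rfl⟩ ?_
      rw [mul_comm _ 2]
      exact mul_dvd_mul_left 2 (h2.trans ((Nat.lcm_dvd_mul _ _).trans (mul_dvd_mul_left _ hr)))
    · refine Covered.mono ⟨2 * ((q ^ 2 + 1) * (q - 1)), by simp [maxOrders], dvd_rfl⟩ ?_
      rw [mul_comm _ 2]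
      exact mul_dvd_mul_left 2 (h2.trans ((Nat.lcm_dvd_mul _ _).trans (mul_dvd_mul_left _ hr)))
  · refine Covered.mono ⟨4 * (q ^ 2 - 1), by simp [maxOrders], dvd_rfl⟩ ?_
    rw [mul_comm _ 2]
    refine mul_dvd_mul (by norm_num) (h2.trans (Nat.lcm_dvd dvd_rfl ?_))
    rw [sq_sub_one]
    rcases wt_one (l := l') (by omega) with hr | hr
    exacts [hr.trans (dvd_mul_right _ _), hr.trans (dvd_mul_left _ _)]

/-- Every admissible combination of pieces and unipotent order is covered. -/
theorem covered {l : List (Piece q)} {m e K : ℕ} (hl : wt l ≤ m) (hm : m ≤ 4)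
    (hK : K ≤ 2 * (4 - m) ∨ ∃ x ∈ l, K ≤ x.c)
    (he : e = 0 ∨ 2 ^ (e - 1) < K) : Covered q (tor l * 2 ^ e) := by
  have hK' : K ≤ max 4 (2 * (4 - m)) := by
    rcases hK with h | ⟨x, hx, h⟩
    · omega
    · have := (piece_bound hx).2; omega
  have he3 : e ≤ 3 := by
    by_contra h
    rcases he with h' | h'
    · omega
    · have : 2 ^ 3 ≤ 2 ^ (e - 1) := Nat.pow_le_pow_right two_pos (by omega)
      omega
  rcases Nat.lt_or_ge m 2 with h1 | h2
  · rcases wt_one (l := l) (by omega) with h | h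
    · refine Covered.mono ⟨8 * (q + 1), by simp [maxOrders], dvd_rfl⟩ ?_
      rw [mul_comm 8]
      exact mul_dvd_mul h ((pow_dvd_pow 2 he3).trans (by norm_num))
    · refine Covered.mono ⟨8 * (q - 1), by simp [maxOrders], dvd_rfl⟩ ?_
      rw [mul_comm 8]
      exact mul_dvd_mul h ((pow_dvd_pow 2 he3).trans (by norm_num))
  have he2 : e ≤ 2 := by
    by_contra h
    rcases he with h' | h'
    · omega
    · have : 2 ^ 2 ≤ 2 ^ (e - 1) := Nat.pow_le_pow_right two_pos (by omega)
      omega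
  rcases Nat.lt_or_ge m 3 with h1 | h3
  · rcases wt_two (l := l) (by omega) with h | h
    · refine Covered.mono ⟨4 * (q ^ 2 + 1), by simp [maxOrders], dvd_rfl⟩ ?_
      rw [mul_comm 4]
      exact mul_dvd_mul h ((pow_dvd_pow 2 he2).trans (by norm_num))
    · refine Covered.mono ⟨4 * (q ^ 2 - 1), by simp [maxOrders], dvd_rfl⟩ ?_
      rw [mul_comm 4]
      exact mul_dvd_mul h ((pow_dvd_pow 2 he2).trans (by norm_num))
  rcases (show e = 0 ∨ e = 1 ∨ e = 2 by omega) with rfl | rfl | rfl
  · rw [pow_zero, mul_one]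
    by_cases hs : ∀ x ∈ l, x.d ≤ 2
    · exact ⟨q ^ 4 - 1, by simp [maxOrders], all_le_two hs⟩
    push Not at hs
    obtain ⟨x, hx, hxd⟩ := hs
    obtain ⟨l', h1, h2', -⟩ := split_piece hx
    have := Nat.le_mul_of_pos_right x.d x.hc
    have := piece_bound hx
    rcases (show x.d = 3 ∨ x.d = 4 by omega) with hd | hd
    · rcases x.ht with e | e <;> rw [e, hd] at h2'
      · rcases wt_one (l := l') (by omega) with hr | hr
        · refine ⟨2 * (q ^ 3 + 1), by simp [maxOrders], h2'.trans ((Nat.lcm_dvd dvd_rfl ?_).trans (dvd_mul_left _ _))⟩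
          exact hr.trans ⟨q ^ 2 + 1 - q, by
            have hq : q ≤ q ^ 2 + 1 := by nlinarith
            zify [hq]
            ring⟩
        · exact ⟨(q ^ 3 + 1) * (q - 1), by simp [maxOrders],
            h2'.trans ((Nat.lcm_dvd_mul _ _).trans (mul_dvd_mul_left _ hr))⟩
      · rcases wt_one (l := l') (by omega) with hr | hr
        · exact ⟨(q ^ 3 - 1) * (q + 1), by simp [maxOrders],
            h2'.trans ((Nat.lcm_dvd_mul _ _).trans (mul_dvd_mul_left _ hr))⟩
        · refine ⟨2 * (q ^ 3 - 1), by simp [maxOrders], h2'.trans ((Nat.lcm_dvd dvd_rfl ?_).trans (dvd_mul_left _ _))⟩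
          exact hr.trans (by simpa using Nat.sub_one_dvd_pow_sub_one q 3)
    · rw [wt_zero (l := l') (by omega), Nat.lcm_one_right] at h2'
      rcases x.ht with e | e <;> rw [e, hd] at h2'
      exacts [⟨_, by simp [maxOrders], h2'⟩, ⟨_, by simp [maxOrders], h2'⟩]
  · rw [pow_one]
    rcases Nat.lt_or_ge m 4 with h1 | h4
    · by_cases hones : ∀ x ∈ l, x.d = 1
      · refine Covered.mono ⟨4 * (q ^ 2 - 1), by simp [maxOrders], dvd_rfl⟩ ?_
        rw [mul_comm 4]
        exact mul_dvd_mul (all_ones hones) (by norm_num)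
      push Not at hones
      obtain ⟨x, hx, hxd⟩ := hones
      have := piece_bound hx
      have := x.hd
      rcases (show x.d = 2 ∨ x.d = 3 by omega) with hd | hd
      · exact mixed_two (by omega) hx hd
      · obtain ⟨l', h1', h2', -⟩ := split_piece hx
        have := Nat.le_mul_of_pos_right x.d x.hc
        rw [wt_zero (l := l') (by omega), Nat.lcm_one_right] at h2'
        rcases x.ht with e | e <;> rw [e, hd] at h2'
        · refine Covered.mono ⟨2 * (q ^ 3 + 1), by simp [maxOrders], dvd_rfl⟩ ?_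
          rw [mul_comm 2]
          exact mul_dvd_mul h2' dvd_rfl
        · refine Covered.mono ⟨2 * (q ^ 3 - 1), by simp [maxOrders], dvd_rfl⟩ ?_
          rw [mul_comm 2]
          exact mul_dvd_mul h2' dvd_rfl
    · simp only [show m = 4 by omega, Nat.sub_self, mul_zero] at hK
      rcases hK with h | ⟨x, hx, hxc⟩
      · exfalso
        simp at he
        omega
      have hc2 : 2 ≤ x.c := by simp at he; omega
      obtain ⟨l', h1', h2', hsub⟩ := split_piece hx
      have h5 : x.d * 2 ≤ x.d * x.c := Nat.mul_le_mul_left _ hc2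
      have := x.hd
      rcases (show x.d = 1 ∨ x.d = 2 by omega) with hd | hd
      · rw [hd, one_mul] at h1'
        by_cases hones : ∀ y ∈ l', y.d = 1
        · refine Covered.mono ⟨4 * (q ^ 2 - 1), by simp [maxOrders], dvd_rfl⟩ ?_
          rw [mul_comm 4]
          exact mul_dvd_mul (h2'.trans (Nat.lcm_dvd (deg_one_dvd x hd) (all_ones hones))) (by norm_num)
        push Not at hones
        obtain ⟨y, hy, hyd⟩ := hones
        have := piece_bound hy
        have := y.hd
        let x₁ : Piece q := ⟨1, 1, x.t, le_rfl, le_rfl, hd ▸ x.ht⟩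
        refine Covered.mono (mixed_two (l := x₁ :: l') (x := y) ?_ (List.mem_cons_of_mem _ hy) (by omega)) ?_
        · rw [wt_cons]; show 1 * 1 + wt l' ≤ 3; omega
        · exact mul_dvd_mul_right h2' 2
      · rw [hd] at h1' h5
        rw [wt_zero (l := l') (by omega), Nat.lcm_one_right] at h2'
        rcases x.ht with e | e <;> rw [e, hd] at h2'
        · refine Covered.mono ⟨4 * (q ^ 2 + 1), by simp [maxOrders], dvd_rfl⟩ ?_
          rw [mul_comm 4]
          exact mul_dvd_mul h2' (by norm_num)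
        · refine Covered.mono ⟨4 * (q ^ 2 - 1), by simp [maxOrders], dvd_rfl⟩ ?_
          rw [mul_comm 4]
          exact mul_dvd_mul h2' (by norm_num)
  · simp at he
    rcases hK with h | ⟨x, hx, hxc⟩
    · omega
    have hc3 : 3 ≤ x.c := by omega
    obtain ⟨l', h1', h2', -⟩ := split_piece hx
    have h5 : x.d * 3 ≤ x.d * x.c := Nat.mul_le_mul_left _ hc3
    have := x.hd
    have hd : x.d = 1 := by omega
    rw [hd, one_mul] at h1'
    refine Covered.mono ⟨4 * (q ^ 2 - 1), by simp [maxOrders], dvd_rfl⟩ ?_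
    rw [mul_comm 4]
    refine mul_dvd_mul (h2'.trans (Nat.lcm_dvd (deg_one_dvd x hd) ?_)) (by norm_num)
    rw [sq_sub_one]
    rcases wt_one (l := l') (by omega) with hr | hr
    exacts [hr.trans (dvd_mul_right _ _), hr.trans (dvd_mul_left _ _)]

end CfsgLib.HallGen.SpEightSpectrum
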