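import Cfsg.Agent.Lib.HallGen.SympSpectrum.Blocks
import Cfsg.Agent.Lib.HallGen.SpEightSpectrum.Arith

/-!
# Torus pieces of a fixed-point-free semisimple isometry
-/

set_option autoImplicit false

namespace CfsgLib.HallGen.SpEightSpectrum

open Polynomial Module
open CfsgLib.HallGen.SympSpectrum (commute_aeval exists_pow_kill exists_root_pow mul_eq_one_of_root)

variable {F V : Type*} [Field F] [Finite F] [AddCommGroup V] [Module F V] [FiniteDimensional F V]

/-- The irreducible factor behind a torus piece. -/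
def HasFactor (S : Module.End F V) (M : ℕ) (x : Piece (Nat.card F)) : Prop :=
  ∃ f : F[X], f.Monic ∧ Irreducible f ∧ f ∣ minpoly F S ∧ finrank F (LinearMap.ker (aeval S f)) = f.natDegree * x.c ∧
    ((x.t = Nat.card F ^ x.d + 1 ∧ f.natDegree = 2 * x.d) ∨
      (x.t = Nat.card F ^ x.d - 1 ∧ f.natDegree = x.d ∧ ¬ f ∣ f.comp (X ^ (M - 1))))

/-- The pieces of a semisimple isometry without eigenvalues `±1`, with a commuting nilpotent map. -/
theorem exists_pieces_factor {p : ℕ} [Fact p.Prime] [CharP F p] (B : V →ₗ[F] V →ₗ[F] F)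
    (hnd : ∀ x, (∀ y, B x y = 0) → x = 0) (S N : Module.End F V) {M : ℕ} (hM0 : 0 < M) (hMF : (M : F) ≠ 0)
    (hSM : S ^ M = 1) (hiso : ∀ u v, B (S u) (S v) = B u v) (hfix : ∀ v, S v = v → v = 0)
    (hneg : ∀ v, S v = -v → v = 0) (hN : IsNilpotent N) (hSN : Commute S N) :
    ∃ l : List (Piece (Nat.card F)), 2 * wt l = finrank F V ∧ S ^ tor l = 1 ∧
      (∀ x ∈ l, HasFactor S M x) ∧
      ∀ k, (∀ x ∈ l, x.c ≤ k) → N ^ k = 0 := by
  classical
  let R : F[X] → F[X] := fun P => P.comp (X ^ (M - 1))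
  have hR : ∀ P, aeval S (R P) = aeval (S ^ (M - 1)) P := fun P => by
    show aeval S (P.comp _) = _
    rw [aeval_comp, map_pow, aeval_X]
  have hadj : ∀ (P : F[X]) (u v : V), B (aeval S P u) v = B u (aeval S (R P) v) := by
    intro P
    induction P using Polynomial.induction_on' with
    | add P Q hP hQ =>
      intro u v
      rw [map_add, LinearMap.add_apply, map_add, LinearMap.add_apply, hP, hQ, hR, hR, hR, map_add,
        LinearMap.add_apply, map_add]
    | monomial n c =>
      intro u v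
      have hpow : ∀ (j : ℕ) (u v : V), B ((S ^ j) u) ((S ^ j) v) = B u v := by
        intro j
        induction j with
        | zero => intro u v; rfl
        | succ j ih => intro u v; rw [pow_succ, Module.End.mul_apply, Module.End.mul_apply, ih, hiso]
      have hinv : (S ^ n) (((S ^ (M - 1)) ^ n) v) = v := by
        rw [← Module.End.mul_apply, ← (Commute.pow_self S (M - 1)).symm.mul_pow, ← pow_succ',
          Nat.sub_add_cancel hM0, hSM, one_pow]
        rfl
      rw [hR, aeval_monomial, aeval_monomial, Module.algebraMap_end_eq_smul_id]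
      show B (c • (S ^ n) u) v = B u (c • ((S ^ (M - 1)) ^ n) v)
      rw [map_smul, LinearMap.smul_apply, map_smul]
      conv_lhs => rw [← hinv, hpow]
  set μ := minpoly F S with hμdef
  have hint : IsIntegral F S := Algebra.IsIntegral.isIntegral S
  have hμm : μ.Monic := minpoly.monic hint
  have hμdvd : μ ∣ X ^ M - 1 := minpoly.dvd F S (by simp [hSM])
  have hsep : (X ^ M - 1 : F[X]).Separable := by
    rw [← map_one C]; exact separable_X_pow_sub_C 1 hMF one_ne_zero
  have hsq : Squarefree μ := (hsep.of_dvd hμdvd).squarefree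
  -- the monic irreducible factors, their kernels and the inversion
  have hker0 : ∀ f : F[X], f.Monic → Irreducible f → f ∣ μ → LinearMap.ker (aeval S f) ≠ ⊥ := by
    rintro f hfm hfi ⟨Q, hQ⟩ hbot
    have hQm : Q.Monic := hfm.of_mul_monic_left (hQ ▸ hμm)
    have hz : aeval S Q = 0 := LinearMap.ext fun v => by
      refine (LinearMap.ker_eq_bot'.1 hbot) _ ?_
      rw [← Module.End.mul_apply, ← map_mul, ← hQ, minpoly.aeval]
      rfl
    have hle := natDegree_le_of_dvd (minpoly.dvd F S hz) hQm.ne_zero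
    rw [← hμdef, hQ, hfm.natDegree_mul hQm] at hle
    have := hfi.natDegree_pos
    omega
  have hstar : ∀ f : F[X], f.Monic → Irreducible f → f ∣ μ →
      ∃ f' : F[X], f'.Monic ∧ Irreducible f' ∧ f' ∣ μ ∧ f ∣ R f' ∧ f' ∣ R f ∧
        finrank F (LinearMap.ker (aeval S f)) = finrank F (LinearMap.ker (aeval S f')) ∧
        f'.natDegree = f.natDegree ∧
        (∀ h : F[X], h.Monic → Irreducible h → f ∣ R h → h = f') := by
    intro f hfm hfi hfμ
    have : Fact (Irreducible f) := ⟨hfi⟩
    haveI : FiniteDimensional F (AdjoinRoot f) := (AdjoinRoot.powerBasis hfi.ne_zero).finite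
    set r := AdjoinRoot.root f with hr
    have hroot : ∀ P : F[X], aeval r P = 0 ↔ f ∣ P := fun P => by
      rw [AdjoinRoot.aeval_eq, AdjoinRoot.mk_eq_zero]
    have hrM : r ^ M = 1 := by
      have := (hroot _).2 (hfμ.trans hμdvd)
      rwa [map_sub, map_pow, aeval_X, map_one, sub_eq_zero] at this
    set r' := r ^ (M - 1) with hr'
    have hr'r : r' ^ (M - 1) = r := by
      rcases Nat.lt_or_ge M 2 with h | h
      · obtain rfl : M = 1 := by omega
        rw [pow_zero]
        rw [pow_one] at hrM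
        exact hrM.symm
      obtain ⟨c, rfl⟩ : ∃ c, M = c + 2 := ⟨M - 2, by omega⟩
      rw [hr', ← pow_mul, show (c + 2 - 1) * (c + 2 - 1) = (c + 2) * c + 1 by
        rw [show c + 2 - 1 = c + 1 by omega]; ring, pow_succ, pow_mul, hrM, one_pow, one_mul]
    have hint' : IsIntegral F r' := Algebra.IsIntegral.isIntegral r'
    set f' := minpoly F r' with hf'def
    have hf'i : Irreducible f' := minpoly.irreducible hint'
    have hf'm : f'.Monic := minpoly.monic hint'
    have haeR : ∀ (x : AdjoinRoot f) (P : F[X]), aeval x (R P) = aeval (x ^ (M - 1)) P := fun x P => by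
      show aeval x (P.comp _) = _
      rw [aeval_comp, map_pow, aeval_X]
    have hfR : f ∣ R f' := (hroot _).1 (by rw [haeR]; exact minpoly.aeval F r')
    have hf'R : f' ∣ R f := minpoly.dvd F r' (by rw [haeR, hr'r]; exact (hroot f).2 dvd_rfl)
    have hu : ∀ h : F[X], h.Monic → Irreducible h → f ∣ R h → h = f' := fun h hhm hhi hh =>
      minpoly.eq_of_irreducible_of_monic hhi (by rw [← haeR]; exact (hroot _).2 hh) hhm
    have hle : ∀ {g g' : F[X]}, g ∣ R g' →
        finrank F (LinearMap.ker (aeval S g)) ≤ finrank F (LinearMap.ker (aeval S g')) := by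
      intro g g' hg
      have hperp : ∀ w ∈ LinearMap.range (aeval S g'), ∀ z ∈ LinearMap.ker (aeval S g), B w z = 0 := by
        rintro _ ⟨v, rfl⟩ z hz
        rw [hadj, mul_eq_one_of_root S hg (LinearMap.mem_ker.1 hz), map_zero]
      -- the range of `g'(S)` embeds into the annihilator of `ker g(S)`
      have hinj : Function.Injective (B.comp (LinearMap.range (aeval S g')).subtype) := by
        rw [injective_iff_map_eq_zero]
        exact fun x hx => Subtype.ext (hnd x fun y => LinearMap.congr_fun hx y)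
      have hle : LinearMap.range (B.comp (LinearMap.range (aeval S g')).subtype) ≤
          (LinearMap.ker (aeval S g)).dualAnnihilator := by
        rintro _ ⟨x, rfl⟩
        rw [Submodule.mem_dualAnnihilator]
        exact hperp x x.2
      have h1 := Submodule.finrank_mono hle
      have h3 := LinearMap.finrank_range_of_inj hinj
      have h2 := Subspace.finrank_add_finrank_dualAnnihilator_eq (LinearMap.ker (aeval S g))
      have h4 := LinearMap.finrank_range_add_finrank_ker (aeval S g')
      have h5 := h3.symm.le.trans h1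
      clear h1 h3
      exact Nat.le_of_add_le_add_left ((Nat.add_le_add_right h5 _).trans
        ((Nat.add_comm _ _).trans (h2.trans h4.symm)).le)
    have hf'μ : f' ∣ μ := by
      by_contra h
      obtain ⟨a, b, hab⟩ := hf'i.coprime_iff_not_dvd.2 h
      have h0 : LinearMap.ker (aeval S f') = ⊥ := LinearMap.ker_eq_bot'.2 fun w hw => by
        have := congrArg (fun P => aeval S P w) hab
        simp only [map_add, LinearMap.add_apply, map_mul, map_one, minpoly.aeval, hμdef,
          Module.End.mul_apply, hw, map_zero, LinearMap.zero_apply, add_zero, Module.End.one_apply] at this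
        exact this.symm
      have h1 := hle hfR
      rw [h0, finrank_bot] at h1
      exact hker0 f hfm hfi hfμ (Submodule.finrank_eq_zero.1 (by omega))
    refine ⟨f', hf'm, hf'i, hf'μ, hfR, hf'R, le_antisymm (hle hfR) (hle hf'R), ?_, hu⟩
    refine le_antisymm ?_ ?_
    · have := minpoly.natDegree_le (A := F) r'
      rwa [(AdjoinRoot.powerBasis hfi.ne_zero).finrank, AdjoinRoot.powerBasis_dim] at this
    · have hmin : minpoly F r = f := (AdjoinRoot.minpoly_root hfi.ne_zero).trans (by
        rw [hfm.leadingCoeff, inv_one, map_one, mul_one])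
      conv_lhs => rw [← hmin]
      rw [← IntermediateField.adjoin.finrank (Algebra.IsIntegral.isIntegral _), hf'def,
        ← IntermediateField.adjoin.finrank hint']
      refine IntermediateField.finrank_le_of_le_right ?_
      rw [IntermediateField.adjoin_simple_le_iff, ← hr'r]
      exact pow_mem (IntermediateField.mem_adjoin_simple_self F r') _
  -- one piece
  have hpiece : ∀ f f' : F[X], f.Monic → Irreducible f → f ∣ μ → f'.Monic → Irreducible f' → f ∣ R f' → f' ∣ R f →
      f'.natDegree = f.natDegree → finrank F (LinearMap.ker (aeval S f)) = finrank F (LinearMap.ker (aeval S f')) →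
      ∃ x : Piece (Nat.card F),
        2 * (x.d * x.c) = (∑ g ∈ ({f, f'} : Finset F[X]), finrank F (LinearMap.ker (aeval S g))) ∧
        (∀ g ∈ ({f, f'} : Finset F[X]), g ∣ X ^ x.t - 1) ∧
        (∀ g ∈ ({f, f'} : Finset F[X]), ∀ w, aeval S g w = 0 → ∀ k, x.c ≤ k → (N ^ k) w = 0) ∧
        HasFactor S M x := by
    intro f f' hfm hfi hfμ hf'm hf'i hfR hf'R hdeg hdim
    have : Fact (Irreducible f) := ⟨hfi⟩
    haveI : FiniteDimensional F (AdjoinRoot f) := (AdjoinRoot.powerBasis hfi.ne_zero).finite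
    haveI : Finite (AdjoinRoot f) := Module.finite_of_finite F
    set r := AdjoinRoot.root f with hr
    have hroot : ∀ P : F[X], aeval r P = 0 ↔ f ∣ P := fun P => by
      rw [AdjoinRoot.aeval_eq, AdjoinRoot.mk_eq_zero]
    have hrM : r ^ M = 1 := by
      have := (hroot _).2 (hfμ.trans hμdvd)
      rwa [map_sub, map_pow, aeval_X, map_one, sub_eq_zero] at this
    have hrne : r ≠ 0 := fun e => by rw [e, zero_pow hM0.ne'] at hrM; exact zero_ne_one hrM
    set r' := r ^ (M - 1) with hr'
    have hrr : r * r' = 1 := by rw [hr', ← pow_succ', Nat.sub_add_cancel hM0, hrM]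
    have hf'r : aeval r' f' = 0 := by
      have := (hroot _).2 hfR
      rwa [show R f' = f'.comp (X ^ (M - 1)) from rfl, aeval_comp, map_pow, aeval_X] at this
    obtain ⟨k, hk, hkill⟩ := exists_pow_kill hfi S N hN hSN
    obtain ⟨k', hk', hkill'⟩ := exists_pow_kill hf'i S N hN hSN
    have hkk : k' = k := by
      rw [hdim, hk', hdeg] at hk
      exact mul_left_cancel₀ hfi.natDegree_pos.ne' hk
    subst hkk
    have hk0 : 1 ≤ k' := by
      rcases Nat.eq_zero_or_pos k' with h | h
      · rw [h, mul_zero] at hk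
        exact absurd (Submodule.finrank_eq_zero.1 hk) (hker0 f hfm hfi hfμ)
      · exact h
    have hcardK : ∀ x : AdjoinRoot f, x ^ Nat.card F ^ f.natDegree = x := fun x => by
      have : Fintype (AdjoinRoot f) := Fintype.ofFinite _
      have e : Nat.card (AdjoinRoot f) = Nat.card F ^ f.natDegree := by
        rw [Module.natCard_eq_pow_finrank (K := F), (AdjoinRoot.powerBasis hfi.ne_zero).finrank,
          AdjoinRoot.powerBasis_dim]
      rw [← e, Nat.card_eq_fintype_card, FiniteField.pow_card]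
    have hu : ∀ x : AdjoinRoot f, x ≠ 0 → x ^ (Nat.card F ^ f.natDegree - 1) = 1 := fun x hx => by
      have h1 := hcardK x
      rw [← Nat.sub_add_cancel (Nat.one_le_pow f.natDegree _ (Nat.card_pos (α := F))), pow_succ] at h1
      exact (mul_eq_right₀ hx).1 h1
    have hdiv' : ∀ T : ℕ, r ^ T = 1 → f' ∣ X ^ T - 1 := fun T hT => by
      rw [minpoly.eq_of_irreducible_of_monic hf'i hf'r hf'm]
      refine minpoly.dvd F r' ?_
      rw [map_sub, map_pow, aeval_X, map_one, hr', ← pow_mul, mul_comm, pow_mul, hT, one_pow, sub_self]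
    have hdiv : ∀ T : ℕ, r ^ T = 1 → ∀ g ∈ ({f, f'} : Finset F[X]), g ∣ X ^ T - 1 := fun T hT g hg => by
      rw [Finset.mem_insert, Finset.mem_singleton] at hg
      rcases hg with rfl | rfl
      · rw [← hroot, map_sub, map_pow, aeval_X, map_one, hT, sub_self]
      · exact hdiv' T hT
    have hkills : ∀ g ∈ ({f, f'} : Finset F[X]), ∀ w, aeval S g w = 0 → ∀ j, k' ≤ j → (N ^ j) w = 0 := by
      intro g hg w hw j hj
      obtain ⟨i, rfl⟩ := Nat.exists_eq_add_of_le hj
      rw [add_comm, pow_add, Module.End.mul_apply]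
      rw [Finset.mem_insert, Finset.mem_singleton] at hg
      rcases hg with rfl | rfl
      · rw [hkill w hw, map_zero]
      · rw [hkill' w hw, map_zero]
    by_cases he : f' = f
    · obtain ⟨i, hi⟩ := exists_root_pow (p := p) hfi hfm (M - 1) (by have h := hf'r; rw [he] at h; exact h)
      rw [← hr, ← hr'] at hi
      have h2i : r ^ Nat.card F ^ (2 * i) = r := by
        rw [two_mul, pow_add, pow_mul, ← hi, hr', ← pow_mul, mul_comm, pow_mul, ← hi, hr', ← pow_mul]
        rcases Nat.lt_or_ge M 2 with h | h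
        · obtain rfl : M = 1 := by omega
          rw [pow_one] at hrM
          rw [hrM, one_pow]
        obtain ⟨c, rfl⟩ : ∃ c, M = c + 2 := ⟨M - 2, by omega⟩
        rw [show (c + 2 - 1) * (c + 2 - 1) = (c + 2) * c + 1 by
          rw [show c + 2 - 1 = c + 1 by omega]; ring, pow_succ, pow_mul, hrM, one_pow, one_mul]
      have hD2 : f.natDegree ∣ 2 * i :=
        hfi.natDegree_dvd_iff_dvd_X_pow_card_pow_sub_X.2 ((hroot _).1 (by simp [h2i]))
      have hDi : ¬ f.natDegree ∣ i := by
        intro hd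
        have h1 := (hroot _).2 (hfi.natDegree_dvd_iff_dvd_X_pow_card_pow_sub_X.1 hd)
        simp only [map_sub, map_pow, aeval_X, sub_eq_zero] at h1
        rw [← hi] at h1
        have hr2 : r ^ 2 = 1 := by rw [pow_two]; nth_rw 2 [← h1]; exact hrr
        obtain ⟨e, he1, hre⟩ : ∃ e : F, (e = 1 ∨ e = -1) ∧ r = algebraMap F _ e := by
          rcases sq_eq_one_iff.1 hr2 with h | h
          exacts [⟨1, Or.inl rfl, by rw [map_one]; exact h⟩, ⟨-1, Or.inr rfl, by rw [map_neg, map_one]; exact h⟩]
        have hfX : f = X - C e := eq_of_monic_of_associated hfm (monic_X_sub_C e)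
          (hfi.associated_of_dvd (irreducible_X_sub_C e) ((hroot _).1 (by simp [hre])))
        refine hker0 f hfm hfi hfμ (LinearMap.ker_eq_bot'.2 fun w hw => ?_)
        rw [hfX, map_sub, aeval_X, aeval_C, LinearMap.sub_apply, Module.algebraMap_end_apply, sub_eq_zero] at hw
        rcases he1 with rfl | rfl
        · exact hfix w (by rw [hw, one_smul])
        · exact hneg w (by rw [hw, neg_one_smul])
      obtain ⟨d, hd⟩ : 2 ∣ f.natDegree := by
        by_contra hodd
        exact hDi (((Nat.prime_two.coprime_iff_not_dvd.2 hodd).symm).dvd_of_dvd_mul_left hD2)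
      obtain ⟨c, hic⟩ : d ∣ i := by
        rw [hd] at hD2
        exact (Nat.mul_dvd_mul_iff_left two_pos).1 hD2
      have hcodd : c % 2 = 1 := by
        by_contra hc2
        refine hDi ?_
        rw [hd, hic, mul_comm 2 d]
        exact mul_dvd_mul_left d (Nat.dvd_of_mod_eq_zero (by omega))
      have hid : r ^ Nat.card F ^ i = r ^ Nat.card F ^ d := by
        obtain ⟨c', hc'⟩ : ∃ c', c = 2 * c' + 1 := ⟨c / 2, by omega⟩
        rw [hic, hc', show d * (2 * c' + 1) = f.natDegree * c' + d by rw [hd]; ring, pow_add, pow_mul]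
        congr 1
        clear hc' hcodd
        induction c' with
        | zero => simp
        | succ c' ih => rw [mul_add, mul_one, pow_add, pow_mul, ih, hcardK]
      refine ⟨⟨d, k', _, by have := hfi.natDegree_pos; omega, hk0, Or.inl rfl⟩, ?_, hdiv _ ?_, hkills,
        f, hfm, hfi, hfμ, hk, Or.inl ⟨rfl, hd⟩⟩
      · show 2 * (d * k') = _
        rw [he, Finset.pair_eq_singleton, Finset.sum_singleton, hk, hd, mul_assoc]
      · rw [pow_succ, ← hid, ← hi, mul_comm, hrr]
    · refine ⟨⟨f.natDegree, k', _, hfi.natDegree_pos, hk0, Or.inr rfl⟩, ?_, hdiv _ (hu r hrne), hkills,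
        f, hfm, hfi, hfμ, hk, Or.inr ⟨rfl, rfl, fun h => he ?_⟩⟩
      swap
      · have h1 : aeval r' f = 0 := by
          have := (hroot _).2 h
          rwa [aeval_comp, map_pow, aeval_X] at this
        exact (minpoly.eq_of_irreducible_of_monic hf'i hf'r hf'm).trans
          (minpoly.eq_of_irreducible_of_monic hfi h1 hfm).symm
      rw [Finset.sum_pair (Ne.symm he), ← hdim, hk]
      ring
  -- all pieces
  have hall : ∀ Φ : Finset F[X], (∀ f ∈ Φ, f.Monic ∧ Irreducible f ∧ f ∣ μ) →
      (∀ f ∈ Φ, ∀ h : F[X], h.Monic → Irreducible h → f ∣ R h → h ∈ Φ) →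
      ∃ l : List (Piece (Nat.card F)), 2 * wt l = (∑ g ∈ Φ, finrank F (LinearMap.ker (aeval S g))) ∧
        (∀ g ∈ Φ, g ∣ X ^ tor l - 1) ∧
        (∀ x ∈ l, HasFactor S M x) ∧
        ∀ k, (∀ x ∈ l, x.c ≤ k) → ∀ g ∈ Φ, ∀ w, aeval S g w = 0 → (N ^ k) w = 0 := by
    intro Φ
    induction Φ using Finset.strongInduction with
    | _ Φ ih =>
      intro hΦ hcl
      rcases Φ.eq_empty_or_nonempty with rfl | ⟨f, hf⟩
      · exact ⟨[], by simp [wt], by simp, by simp, by simp⟩
      obtain ⟨hfm, hfi, hfμ⟩ := hΦ f hf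
      obtain ⟨f', hf'm, hf'i, hf'μ, hfR, hf'R, hdim, hdeg, huniq⟩ := hstar f hfm hfi hfμ
      obtain ⟨x, hx1, hx2, hx3, hxf⟩ := hpiece f f' hfm hfi hfμ hf'm hf'i hfR hf'R hdeg hdim
      have hf'Φ : f' ∈ Φ := hcl f hf f' hf'm hf'i hfR
      have hsub : ({f, f'} : Finset F[X]) ⊆ Φ := by
        simp [Finset.insert_subset_iff, hf, hf'Φ]
      obtain ⟨l, hl1, hl2, hlf, hl3⟩ := ih (Φ \ {f, f'}) (Finset.sdiff_ssubset hsub (by simp))
        (fun g hg => hΦ g (Finset.mem_sdiff.1 hg).1) (fun g hg h hhm hhi hgh => by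
          obtain ⟨hgΦ, hgne⟩ := Finset.mem_sdiff.1 hg
          refine Finset.mem_sdiff.2 ⟨hcl g hgΦ h hhm hhi hgh, fun hh => hgne ?_⟩
          obtain ⟨hgm, hgi, hgμ⟩ := hΦ g hgΦ
          obtain ⟨g', hg'm, hg'i, hg'μ, -, hg'R, -, -, hgu⟩ := hstar g hgm hgi hgμ
          have e := hgu h hhm hhi hgh
          subst e
          rw [Finset.mem_insert, Finset.mem_singleton] at hh ⊢
          rcases hh with rfl | rfl
          · exact Or.inr (huniq g hgm hgi hg'R)
          · obtain ⟨f'', -, -, -, -, -, -, -, hu2⟩ := hstar h hhm hhi hg'μ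
            exact Or.inl ((hu2 g hgm hgi hg'R).trans (hu2 f hfm hfi hf'R).symm))
      refine ⟨x :: l, ?_, fun g hg => ?_, List.forall_mem_cons.2 ⟨hxf, hlf⟩, fun k hk g hg w hw => ?_⟩
      · rw [wt_cons, mul_add, hx1, hl1, add_comm, Finset.sum_sdiff hsub]
      · have hpow : ∀ a b : ℕ, a ∣ b → (X ^ a - 1 : F[X]) ∣ X ^ b - 1 := fun a b ⟨c, hc⟩ => by
          rw [hc, pow_mul]
          exact sub_one_dvd_pow_sub_one _ _
        rw [tor_cons]
        by_cases h : g ∈ ({f, f'} : Finset F[X])
        · exact (hx2 g h).trans (hpow _ _ (Nat.dvd_lcm_left _ _))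
        · exact (hl2 g (Finset.mem_sdiff.2 ⟨hg, h⟩)).trans (hpow _ _ (Nat.dvd_lcm_right _ _))
      · by_cases h : g ∈ ({f, f'} : Finset F[X])
        · exact hx3 g h w hw k (hk x List.mem_cons_self)
        · exact hl3 k (fun y hy => hk y (List.mem_cons_of_mem _ hy)) g (Finset.mem_sdiff.2 ⟨hg, h⟩) w hw
  set Φ := (UniqueFactorizationMonoid.normalizedFactors μ).toFinset with hΦdef
  have hΦ : ∀ f, f ∈ Φ ↔ f.Monic ∧ Irreducible f ∧ f ∣ μ := fun f => by
    rw [hΦdef, Multiset.mem_toFinset, Polynomial.mem_normalizedFactors_iff hμm.ne_zero]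
    tauto
  obtain ⟨l, hl1, hl2, hlf, hl3⟩ := hall Φ (fun f hf => (hΦ f).1 hf) (fun f hf h hhm hhi hfh => by
    obtain ⟨hfm, hfi, hfμ⟩ := (hΦ f).1 hf
    obtain ⟨f', -, -, hf'μ, -, -, -, -, hu⟩ := hstar f hfm hfi hfμ
    exact (hΦ h).2 ⟨hhm, hhi, hu h hhm hhi hfh ▸ hf'μ⟩)
  -- primary decomposition
  have hdec : ∀ s : Finset F[X], (∀ f ∈ s, f.Monic ∧ Irreducible f ∧ f ∣ μ) →
      finrank F (LinearMap.ker (aeval S (∏ g ∈ s, g))) = (∑ g ∈ s, finrank F (LinearMap.ker (aeval S g))) ∧
      (∀ L : ℕ, (∀ g ∈ s, g ∣ X ^ L - 1) → (∏ g ∈ s, g) ∣ X ^ L - 1) ∧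
      ∀ k, (∀ g ∈ s, ∀ w, aeval S g w = 0 → (N ^ k) w = 0) → ∀ w, aeval S (∏ g ∈ s, g) w = 0 → (N ^ k) w = 0 := by
    intro s
    induction s using Finset.induction_on with
    | empty =>
      intro _
      refine ⟨?_, fun L _ => by simp, fun k _ w hw => ?_⟩
      · rw [Finset.prod_empty, map_one, Finset.sum_empty, Module.End.one_eq_id, LinearMap.ker_id, finrank_bot]
      · rw [Finset.prod_empty, map_one, Module.End.one_apply] at hw
        rw [hw, map_zero]
    | insert a s ha ih =>
      intro hs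
      obtain ⟨ih1, ih2, ih3⟩ := ih fun f hf => hs f (Finset.mem_insert_of_mem hf)
      obtain ⟨ham, hai, -⟩ := hs a (Finset.mem_insert_self a s)
      have hco : IsCoprime a (∏ g ∈ s, g) := IsCoprime.prod_right fun g hg => by
        obtain ⟨hgm, hgi, -⟩ := hs g (Finset.mem_insert_of_mem hg)
        exact hai.coprime_iff_not_dvd.2 fun hd =>
          ha (eq_of_monic_of_associated ham hgm (hai.associated_of_dvd hgi hd) ▸ hg)
      have hsup := Polynomial.sup_ker_aeval_eq_ker_aeval_mul_of_coprime S hco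
      have hdis := Polynomial.disjoint_ker_aeval_of_isCoprime S hco
      rw [Finset.prod_insert ha]
      refine ⟨?_, fun L hL => hco.mul_dvd (hL a (Finset.mem_insert_self a s))
        (ih2 L fun g hg => hL g (Finset.mem_insert_of_mem hg)), fun k hk w hw => ?_⟩
      · rw [Finset.sum_insert ha, ← ih1, ← hsup]
        have h := Submodule.finrank_sup_add_finrank_inf_eq (LinearMap.ker (aeval S a))
          (LinearMap.ker (aeval S (∏ g ∈ s, g)))
        rw [disjoint_iff.1 hdis, finrank_bot, add_zero] at h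
        exact h
      · obtain ⟨w₁, hw₁, w₂, hw₂, rfl⟩ := Submodule.mem_sup.1 (hsup.symm ▸ (LinearMap.mem_ker.2 hw))
        rw [map_add, hk a (Finset.mem_insert_self a s) w₁ hw₁,
          ih3 k (fun g hg => hk g (Finset.mem_insert_of_mem hg)) w₂ hw₂, add_zero]
  have hprod : (∏ g ∈ Φ, g) = μ := by
    have hnd' : (UniqueFactorizationMonoid.normalizedFactors μ).Nodup :=
      (UniqueFactorizationMonoid.squarefree_iff_nodup_normalizedFactors hμm.ne_zero).1 hsq
    rw [hΦdef, Finset.prod_eq_multiset_prod, Multiset.toFinset_val, Multiset.dedup_eq_self.2 hnd',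
      Multiset.map_id']
    exact (UniqueFactorizationMonoid.prod_normalizedFactors_eq hμm.ne_zero).trans hμm.normalize_eq_self
  obtain ⟨hd1, hd2, hd3⟩ := hdec Φ fun f hf => (hΦ f).1 hf
  rw [hprod] at hd1 hd2 hd3
  have htop : LinearMap.ker (aeval S μ) = ⊤ := by rw [minpoly.aeval, LinearMap.ker_zero]
  rw [htop, finrank_top] at hd1
  refine ⟨l, hl1.trans hd1.symm, ?_, hlf, fun k hk => LinearMap.ext fun w => hd3 k (hl3 k hk) w ?_⟩
  · obtain ⟨Q, hQ⟩ := hd2 (tor l) hl2
    have h1 := congrArg (aeval S) hQ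
    rw [map_sub, map_pow, aeval_X, map_one, map_mul, minpoly.aeval, zero_mul, sub_eq_zero] at h1
    exact h1
  · rw [minpoly.aeval, LinearMap.zero_apply]

/-- The pieces of a semisimple isometry without fixed vectors, with a commuting nilpotent map. -/
theorem exists_pieces {p : ℕ} [Fact p.Prime] [CharP F p] (B : V →ₗ[F] V →ₗ[F] F)
    (hnd : ∀ x, (∀ y, B x y = 0) → x = 0) (S N : Module.End F V) {M : ℕ} (hModd : Odd M) (hMF : (M : F) ≠ 0)
    (hSM : S ^ M = 1) (hiso : ∀ u v, B (S u) (S v) = B u v) (hfix : ∀ v, S v = v → v = 0)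
    (hN : IsNilpotent N) (hSN : Commute S N) :
    ∃ l : List (Piece (Nat.card F)), 2 * wt l = finrank F V ∧ S ^ tor l = 1 ∧
      ∀ k, (∀ x ∈ l, x.c ≤ k) → N ^ k = 0 := by
  have hneg : ∀ v, S v = -v → v = 0 := fun v hv => hfix v (by
    have hk : ∀ k : ℕ, (S ^ k) v = (-1 : F) ^ k • v := fun k => by
      induction k with
      | zero => simp
      | succ k ih => rw [pow_succ', Module.End.mul_apply, ih, map_smul, hv, pow_succ, mul_smul, neg_one_smul]
    have h := hk M
    rw [hSM, Module.End.one_apply, hModd.neg_one_pow, neg_one_smul] at h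
    rw [hv]
    exact h.symm)
  obtain ⟨l, h1, h2, -, h3⟩ := exists_pieces_factor (p := p) B hnd S N hModd.pos hMF hSM hiso hfix hneg hN hSN
  exact ⟨l, h1, h2, h3⟩

end CfsgLib.HallGen.SpEightSpectrum
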