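import Cfsg.Agent.Lib.HallGen.SpEightSpectrum.Forms
import Cfsg.Agent.Lib.HallGen.SpEightSpectrum.Upper

/-!
# Elements of `O⁻(8, 2^k)` realising the twelve orders
-/

set_option autoImplicit false

namespace CfsgLib.HallGen.SpEightSpectrum

open Module
open QuadraticMap (polar polarBilin)
open CfsgLib.Classical CfsgLib.Classical.Quad CfsgLib.Classical.CharTwo CfsgLib.Known.OmegaCriterion
open CfsgLib.HallGen.PrimeGraphBC (prodHom conjHom prodHom_injective conjHom_injective nondeg_prod oEnd oEnd_injective)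

variable {F : Type*} [Field F] [CharP F 2] [Fintype F]
variable {V W : Type*} [AddCommGroup V] [Module F V] [AddCommGroup W] [Module F W]

local notation "qq" => Fintype.card F

/-- The parity of a direct product. -/
theorem par_prodHom [FiniteDimensional F V] [FiniteDimensional F W] (Q : QuadraticForm F V) (R : QuadraticForm F W)
    (g : OQ Q) (h : OQ R) : par (prodHom Q R (g, h)) = par g + par h := by
  have e : mov (prodHom Q R (g, h)) = (mov g).prod (mov h) := by
    show LinearMap.range (movMap (prodHom Q R (g, h))) = _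
    rw [show movMap (prodHom Q R (g, h)) = (movMap g).prodMap (movMap h) from LinearMap.ext fun v => rfl,
      LinearMap.range_prodMap]
    rfl
  unfold par
  rw [e, ← Nat.cast_add]
  congr 1
  rw [← Module.finrank_prod]
  exact LinearEquiv.finrank_eq
    { toFun := fun x => (⟨x.1.1, x.2.1⟩, ⟨x.1.2, x.2.2⟩)
      invFun := fun x => ⟨(x.1, x.2), x.1.2, x.2.2⟩
      map_add' := fun _ _ => rfl
      map_smul' := fun _ _ => rfl
      left_inv := fun _ => rfl
      right_inv := fun _ => rfl }

omit [Fintype F] [CharP F 2] in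
/-- The parity is preserved by transport. -/
theorem par_conjHom [FiniteDimensional F V] [FiniteDimensional F W] {Q : QuadraticForm F V} {R : QuadraticForm F W}
    (E : V ≃ₗ[F] W) (c : F) (h : ∀ v, R (E v) = c * Q v) (g : OQ Q) : par (conjHom E c h g) = par g := by
  have e : mov (conjHom E c h g) = (mov g).map (E : V →ₗ[F] W) := by
    refine le_antisymm ?_ ?_
    · rintro _ ⟨w, rfl⟩
      refine ⟨movMap g (E.symm w), ⟨_, rfl⟩, ?_⟩
      simp [movMap_apply, conjHom]
    · rintro _ ⟨_, ⟨v, rfl⟩, rfl⟩
      exact ⟨E v, by simp [movMap_apply, conjHom]⟩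
  unfold par
  rw [e, LinearEquiv.finrank_map_eq]

variable (F) in
/-- The hyperbolic plane. -/
def hyp2 : QuadraticForm F (F × F) :=
  LinearMap.BilinMap.toQuadraticMap ((LinearMap.mul F F).compl₁₂ (LinearMap.fst F F F) (LinearMap.snd F F F))

omit [CharP F 2] [Fintype F] in
theorem hyp2_apply (p : F × F) : hyp2 F p = p.1 * p.2 := rfl

omit [CharP F 2] [Fintype F] in
theorem hyp2_polar (p p' : F × F) : polar (hyp2 F) p p' = p.1 * p'.2 + p'.1 * p.2 := by
  simp [polar, hyp2_apply]
  ring

omit [CharP F 2] [Fintype F] in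
theorem hyp2_nondeg : (polarBilin (hyp2 F)).Nondegenerate := nondegenerate_of_left fun p hp => by
  have h1 : polar (hyp2 F) p (0, 1) = 0 := hp _
  have h2 : polar (hyp2 F) p (1, 0) = 0 := hp _
  rw [hyp2_polar] at h1 h2
  exact Prod.ext (by simpa using h1) (by simpa using h2)

theorem signSum_hyp2 : signSum ⇑(hyp2 F) = (qq : ℤ) := by
  classical
  unfold signSum
  simp only [Fintype.sum_prod_type, hyp2_apply, sum_psi_mul]
  rw [Finset.sum_ite_eq' Finset.univ (0 : F), if_pos (Finset.mem_univ _)]

theorem refl_prod (Q : QuadraticForm F V) (R : QuadraticForm F W) {e : W} (he : R e ≠ 0)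
    (he' : (Q.prod R) (0, e) ≠ 0) : prodHom Q R (1, refl he) = refl he' := by
  refine Subtype.ext (LinearEquiv.ext fun v => ?_)
  rw [refl_apply]
  refine Prod.ext ?_ ?_
  · show v.1 = _
    simp
  · show (refl he : W ≃ₗ[F] W) v.2 = _
    rw [refl_apply]
    simp [polar]

/-- The Eichler map on a hyperbolic plane plus `V`. -/
def eich (Q : QuadraticForm F V) (a : V) : OQ ((hyp2 F).prod Q) :=
  let T : (F × F) × V →ₗ[F] (F × F) × V :=
    { toFun := fun v => ((v.1.1 + Q a * v.1.2 + polar Q v.2 a, v.1.2), v.2 + v.1.2 • a)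
      map_add' := fun x y => by
        refine Prod.ext (Prod.ext ?_ rfl) ?_
        · simp only [Prod.fst_add, Prod.snd_add, polar_add_left']
          ring
        · simp only [Prod.fst_add, Prod.snd_add, add_smul]
          abel
      map_smul' := fun c x => by
        refine Prod.ext (Prod.ext ?_ rfl) ?_
        · simp only [Prod.smul_fst, Prod.smul_snd, polar_smul_left', smul_eq_mul, RingHom.id_apply]
          ring
        · simp only [Prod.smul_fst, Prod.smul_snd, smul_eq_mul, RingHom.id_apply, smul_add, smul_smul] }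
  have hTT : T ∘ₗ T = LinearMap.id := LinearMap.ext fun v => by
    refine Prod.ext (Prod.ext ?_ rfl) ?_
    · show v.1.1 + Q a * v.1.2 + polar Q v.2 a + Q a * v.1.2 + polar Q (v.2 + v.1.2 • a) a = v.1.1
      rw [polar_add_left', polar_smul_left', polar_self', CharTwo.two_eq_zero]
      linear_combination CharTwo.add_self_eq_zero (Q a * v.1.2 + polar Q v.2 a)
    · show v.2 + v.1.2 • a + v.1.2 • a = v.2
      rw [add_assoc, ← add_smul, CharTwo.add_self_eq_zero, zero_smul, add_zero]
  ⟨LinearEquiv.ofLinear T T hTT hTT, fun v _ => by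
    show ((hyp2 F).prod Q) (T v) = ((hyp2 F).prod Q) v
    rw [QuadraticMap.prod_apply, QuadraticMap.prod_apply]
    show hyp2 F (v.1.1 + Q a * v.1.2 + polar Q v.2 a, v.1.2) + Q (v.2 + v.1.2 • a) = _
    rw [hyp2_apply, hyp2_apply, apply_add, apply_smul, polar_smul_right']
    linear_combination CharTwo.add_self_eq_zero (v.1.2 ^ 2 * Q a + v.1.2 * polar Q v.2 a)⟩

omit [Fintype F] in
theorem eich_apply (Q : QuadraticForm F V) (a : V) (v : (F × F) × V) :
    (eich Q a : _ ≃ₗ[F] _) v = ((v.1.1 + Q a * v.1.2 + polar Q v.2 a, v.1.2), v.2 + v.1.2 • a) := rfl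

/-- A unipotent element with one block of size four. -/
theorem exists_u4 (P : QuadraticForm F (Fin 2 → F)) (hP : (polarBilin P).Nondegenerate) :
    ∃ (u : OQ ((hyp2 F).prod P)) (a : (F × F) × (Fin 2 → F)),
      (oEnd _ u - 1) ^ 4 = 0 ∧ ((oEnd _ u - 1) ^ 3 : Module.End F ((F × F) × (Fin 2 → F))) a ≠ 0 ∧ par u = 1 := by
  have hPne : ∃ e, P e ≠ 0 := by
    by_contra h
    push Not at h
    have : (1 : Fin 2 → F) = 0 := hP.1 1 fun y => by simp [polar, h]
    simpa using congrFun this 0
  obtain ⟨e, he⟩ := hPne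
  obtain ⟨f, hf⟩ : ∃ f, polar P f e = 1 := by
    obtain ⟨y, hy⟩ : ∃ y, polar P e y ≠ 0 := by
      by_contra h
      push Not at h
      exact he (by rw [hP.1 e h, QuadraticMap.map_zero])
    rw [QuadraticMap.polar_comm] at hy
    exact ⟨(polar P y e)⁻¹ • y, by rw [polar_smul_left', inv_mul_cancel₀ hy]⟩
  have hee : polar P e e = 0 := by rw [polar_self', CharTwo.two_eq_zero, zero_mul]
  have hff : polar P f f = 0 := by rw [polar_self', CharTwo.two_eq_zero, zero_mul]
  have hef : polar P e f = 1 := by rw [QuadraticMap.polar_comm]; exact hf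
  set u := prodHom (hyp2 F) P (1, refl he) * eich P f with hu
  set n := oEnd _ u - 1 with hn
  set c := (P e)⁻¹ with hc
  have hnv : ∀ v, n v = ((P f * v.1.2 + polar P v.2 f, (0 : F)),
      v.1.2 • f - (c * (polar P v.2 e + v.1.2)) • e) := fun v => by
    refine Prod.ext (Prod.ext ?_ ?_) ?_
    · show v.1.1 + P f * v.1.2 + polar P v.2 f - v.1.1 = P f * v.1.2 + polar P v.2 f
      ring
    · show v.1.2 - v.1.2 = 0
      ring
    · show ((refl he : OQ P) : (Fin 2 → F) ≃ₗ[F] (Fin 2 → F)) (v.2 + v.1.2 • f) - v.2 = _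
      rw [refl_apply, polar_add_left', polar_smul_left', hf, mul_one, ← hc]
      abel
  have h2 : ∀ v, v.1.2 = 0 → n v = ((polar P v.2 f, 0), -((c * polar P v.2 e) • e)) := fun v hv => by
    rw [hnv, hv]
    simp
  have hn2 : ∀ v, n (n v) = ((-(c * (polar P v.2 e + v.1.2)), 0), -((c * v.1.2) • e)) := fun v => by
    rw [h2 _ (by rw [hnv]), hnv]
    simp [QuadraticMap.polar_sub_left, polar_smul_left', hff, hef, hf, hee]
  have hn3 : ∀ v, n (n (n v)) = ((-(c * v.1.2), 0), 0) := fun v => by
    rw [h2 _ (by rw [hn2]), hn2]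
    simp [QuadraticMap.polar_neg_left, polar_smul_left', hef, hee]
  refine ⟨u, ((0, 1), 0), LinearMap.ext fun v => ?_, fun h => ?_, ?_⟩
  · rw [pow_succ', pow_succ', pow_two, Module.End.mul_apply, Module.End.mul_apply, Module.End.mul_apply, hn3]
    show ((-(c * (n v).1.2), (0 : F)), (0 : Fin 2 → F)) = 0
    rw [hnv]
    simp
  · rw [pow_succ', pow_two, Module.End.mul_apply, Module.End.mul_apply, hn3] at h
    have h1 := congrArg (fun v => v.1.1) h
    simp [hc] at h1
    exact he h1
  · have hker : LinearMap.ker n =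
        LinearMap.range ((LinearMap.inl F (F × F) (Fin 2 → F)).comp (LinearMap.inl F F F)) := by
      ext v
      constructor
      · intro hv
        rw [LinearMap.mem_ker] at hv
        have h0 : v.1.2 = 0 := by
          have h3 := hn3 v
          rw [hv, map_zero, map_zero] at h3
          have := congrArg (fun v => v.1.1) h3
          simp [hc] at this
          exact this.resolve_left he
        have h1 := h2 v h0
        rw [hv] at h1
        have ha : polar P v.2 f = 0 := (congrArg (fun v => v.1.1) h1).symm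
        have hb : polar P v.2 e = 0 := by
          have h4 := congrArg (fun v => polar P v.2 f) h1
          simp [QuadraticMap.polar_neg_left, polar_smul_left', hef, hc] at h4
          exact h4.resolve_left he
        have hli : LinearIndependent F ![e, f] := by
          rw [LinearIndependent.pair_iff]
          intro s t hst
          have ht := congrArg (fun x => polar P x e) hst
          have hs := congrArg (fun x => polar P x f) hst
          simp [polar_add_left', polar_smul_left', hee, hf, hef, hff] at ht hs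
          exact ⟨hs, ht⟩
        have hspan : Submodule.span F (Set.range ![e, f]) = ⊤ :=
          hli.span_eq_top_of_card_eq_finrank (by simp)
        have hz : v.2 = 0 := hP.1 _ fun y => by
          have hy : y ∈ Submodule.span F (Set.range ![e, f]) := hspan ▸ Submodule.mem_top
          rw [Matrix.range_cons, Matrix.range_cons, Matrix.range_empty, Set.union_empty, Set.singleton_union,
            Submodule.mem_span_pair] at hy
          obtain ⟨s, t, rfl⟩ := hy
          show polar P v.2 (s • e + t • f) = 0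
          rw [polar_add_right', polar_smul_right', polar_smul_right', ha, hb]
          ring
        exact ⟨v.1.1, Prod.ext (Prod.ext rfl h0.symm) hz.symm⟩
      · rintro ⟨x, rfl⟩
        rw [LinearMap.mem_ker]
        exact (h2 ((x, 0), 0) rfl).trans (by simp [polar])
    have hrk := LinearMap.finrank_range_add_finrank_ker n
    rw [hker, LinearMap.finrank_range_of_inj
      (f := (LinearMap.inl F (F × F) (Fin 2 → F)).comp (LinearMap.inl F F F)) (fun x y h => by simpa using h),
      Module.finrank_self,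
      Module.finrank_prod, Module.finrank_prod, Module.finrank_self, Module.finrank_pi, Fintype.card_fin] at hrk
    have hmov : mov u = LinearMap.range n := by
      show LinearMap.range (movMap u) = _
      rw [← LinearMap.range_neg n]
      congr 1
      refine LinearMap.ext fun v => ?_
      show v - (u : _ ≃ₗ[F] _) v = -((u : _ ≃ₗ[F] _) v - v)
      abel
    unfold par
    rw [hmov, show finrank F (LinearMap.range n) = 3 by omega]
    decide

/-- An element with one block of size four in four dimensions gives order four. -/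
theorem two_power_order [Nontrivial V] {Q : QuadraticForm F V} (u : OQ Q) {j k : ℕ} (hk : (oEnd Q u - 1) ^ k = 0)
    (hkj : k ≤ 2 ^ (j + 1)) {i : ℕ} (hi : 2 ^ j ≤ i) (hne : (oEnd Q u - 1) ^ i ≠ 0) : orderOf u = 2 ^ (j + 1) := by
  haveI := Fact.mk Nat.prime_two
  refine orderOf_eq_prime_pow (fun h => hne ?_) ?_
  · refine pow_eq_zero_of_le hi ?_
    rw [sub_one_pow_two_pow, ← map_pow, h, map_one, sub_self]
  · refine oEnd_injective ?_
    rw [map_pow, map_one, ← sub_eq_zero, ← sub_one_pow_two_pow]
    exact pow_eq_zero_of_le hkj hk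

theorem plane_vector (P : QuadraticForm F (Fin 2 → F)) (hP : (polarBilin P).Nondegenerate) : ∃ e, P e ≠ 0 := by
  by_contra h
  push Not at h
  have : (1 : Fin 2 → F) = 0 := hP.1 1 fun y => by simp [polar, h]
  simpa using congrFun this 0

theorem refl_order (Q : QuadraticForm F V) (hQ : (polarBilin Q).Nondegenerate) {e : V} (he : Q e ≠ 0) :
    orderOf (refl he : OQ Q) = 2 := by
  haveI := Fact.mk Nat.prime_two
  refine orderOf_eq_prime (by rw [pow_two]; exact refl_mul_self he) fun h => ?_
  obtain ⟨y, hy⟩ : ∃ y, polar Q e y ≠ 0 := by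
    by_contra hcon
    push Not at hcon
    exact he (by rw [hQ.1 e hcon, QuadraticMap.map_zero])
  have h1 := LinearEquiv.congr_fun (congrArg Subtype.val h) y
  rw [refl_apply] at h1
  have h2 : ((Q e)⁻¹ * polar Q y e) • e = 0 := by simpa using h1
  rw [QuadraticMap.polar_comm] at h2
  rcases smul_eq_zero.1 h2 with h3 | h3
  · exact hy ((mul_eq_zero.1 h3).resolve_left (inv_ne_zero he))
  · exact he (by rw [h3, QuadraticMap.map_zero])

/-- Unipotent tails: plain order `2 ^ (j + 1)`, and order `2 ^ j` with a translation doubling it. -/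
def HasTail {W : Type*} [AddCommGroup W] [Module F W] [FiniteDimensional F W] (R : QuadraticForm F W) (j : ℕ) : Prop :=
  (∃ u' : OQ R, orderOf u' = 2 ^ (j + 1)) ∧
    ∃ (u : OQ R) (w : W), orderOf u = 2 ^ j ∧ par u = 0 ∧ ((oEnd R u - 1) ^ (2 ^ j - 1) : Module.End F W) w ≠ 0

theorem tail_one (P : QuadraticForm F (Fin 2 → F)) (hP : (polarBilin P).Nondegenerate) : HasTail P 0 := by
  obtain ⟨e, he⟩ := plane_vector P hP
  refine ⟨⟨refl he, (refl_order P hP he).trans (by norm_num)⟩, 1, e, by simp, par_one hP, ?_⟩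
  simp only [pow_zero, Nat.sub_self, Module.End.one_apply]
  exact fun h => he (by rw [h, QuadraticMap.map_zero])

theorem hyp2_refl_ne : hyp2 F (1, 1) ≠ 0 := by rw [hyp2_apply]; simp

theorem tail_two (P : QuadraticForm F (Fin 2 → F)) (hP : (polarBilin P).Nondegenerate) :
    HasTail ((hyp2 F).prod P) 1 := by
  obtain ⟨u4, a, h4, h3, -⟩ := exists_u4 P hP
  obtain ⟨e, he⟩ := plane_vector P hP
  refine ⟨⟨u4, two_power_order u4 h4 le_rfl (by norm_num : 2 ^ 1 ≤ 3) fun h => h3 (by rw [h]; rfl)⟩, ?_⟩
  set u := prodHom (hyp2 F) P (refl (hyp2_refl_ne (F := F)), refl he) with hu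
  have hord : orderOf u = 2 := by
    rw [hu, orderOf_injective _ (prodHom_injective _ _), Prod.orderOf, refl_order _ hyp2_nondeg,
      refl_order P hP he, Nat.lcm_self]
  obtain ⟨w, hw⟩ : ∃ w, (oEnd _ u - 1 : Module.End F ((F × F) × (Fin 2 → F))) w ≠ 0 := by
    by_contra h
    push Not at h
    have h1 : oEnd _ u = 1 := sub_eq_zero.1 (LinearMap.ext h)
    rw [← map_one (oEnd ((hyp2 F).prod P))] at h1
    rw [oEnd_injective h1, orderOf_one] at hord
    omega
  refine ⟨u, w, hord, ?_, ?_⟩
  · rw [hu, par_prodHom, par_refl hyp2_nondeg, par_refl hP]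
    decide
  · rw [show (2 : ℕ) ^ 1 - 1 = 1 from rfl, pow_one]
    exact hw

theorem prodHom_sub_one_pow {Q : QuadraticForm F V} {R : QuadraticForm F W} (g : OQ Q) (h : OQ R) (k : ℕ)
    (v : V × W) : ((oEnd (Q.prod R) (prodHom Q R (g, h)) - 1) ^ k : Module.End F (V × W)) v =
      (((oEnd Q g - 1) ^ k : Module.End F V) v.1, ((oEnd R h - 1) ^ k : Module.End F W) v.2) := by
  induction k generalizing v with
  | zero => rfl
  | succ k ih =>
    rw [pow_succ, pow_succ, pow_succ, Module.End.mul_apply, Module.End.mul_apply, Module.End.mul_apply, ih]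
    rfl

theorem tail_three (P : QuadraticForm F (Fin 2 → F)) (hP : (polarBilin P).Nondegenerate) :
    HasTail ((hyp2 F).prod ((hyp2 F).prod P)) 2 := by
  obtain ⟨u4, a, h4, h3, hpar⟩ := exists_u4 P hP
  refine ⟨?_, ?_⟩
  · set U := prodHom (hyp2 F) ((hyp2 F).prod P) (1, u4) * eich ((hyp2 F).prod P) a with hU
    set n := oEnd ((hyp2 F).prod P) u4 - 1 with hn
    set D := oEnd _ U - 1 with hD
    set ua := (u4 : ((F × F) × (Fin 2 → F)) ≃ₗ[F] ((F × F) × (Fin 2 → F))) a with hua
    have hDv : ∀ v, D v = ((((hyp2 F).prod P) a * v.1.2 + polar ((hyp2 F).prod P) v.2 a, (0 : F)), n v.2 + v.1.2 • ua) := fun v => by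
      refine Prod.ext (Prod.ext ?_ ?_) ?_
      · show v.1.1 + ((hyp2 F).prod P) a * v.1.2 + polar ((hyp2 F).prod P) v.2 a - v.1.1 = ((hyp2 F).prod P) a * v.1.2 + polar ((hyp2 F).prod P) v.2 a
        ring
      · show v.1.2 - v.1.2 = 0
        ring
      · show (u4 : _ ≃ₗ[F] _) (v.2 + v.1.2 • a) - v.2 = (u4 : _ ≃ₗ[F] _) v.2 - v.2 + v.1.2 • ua
        rw [map_add, map_smul, hua]
        abel
    have hiter : ∀ (k : ℕ) v, ((D ^ (k + 1)) v).2 = (n ^ k) (n v.2 + v.1.2 • ua) ∧ ((D ^ (k + 1)) v).1.2 = 0 := by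
      intro k
      induction k with
      | zero => intro v; rw [pow_one, hDv]; exact ⟨rfl, rfl⟩
      | succ k ih =>
        intro v
        obtain ⟨h1, h2⟩ := ih v
        rw [pow_succ' D (k + 1), Module.End.mul_apply, hDv]
        refine ⟨?_, rfl⟩
        show n ((D ^ (k + 1)) v).2 + ((D ^ (k + 1)) v).1.2 • ua = _
        rw [h2, h1, zero_smul, add_zero, pow_succ' n k, Module.End.mul_apply]
    have h6 : D ^ 6 = 0 := LinearMap.ext fun v => by
      obtain ⟨h1, h2⟩ := hiter 4 v
      rw [h4, LinearMap.zero_apply] at h1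
      rw [pow_succ' D 5, Module.End.mul_apply, hDv, h1, h2]
      simp [polar]
    have hne : D ^ 4 ≠ 0 := fun h => by
      obtain ⟨h1, -⟩ := hiter 3 ((0, 1), 0)
      rw [h, LinearMap.zero_apply, map_zero, zero_add, one_smul] at h1
      have hua' : ua = n a + a := by
        show ua = (u4 : _ ≃ₗ[F] _) a - a + a
        rw [sub_add_cancel]
      rw [hua', map_add, ← Module.End.mul_apply, ← pow_succ, h4, LinearMap.zero_apply, zero_add] at h1
      exact h3 h1.symm
    exact ⟨U, two_power_order U h6 (by norm_num) (by norm_num : 2 ^ 2 ≤ 4) hne⟩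
  · refine ⟨prodHom (hyp2 F) ((hyp2 F).prod P) (refl (hyp2_refl_ne (F := F)), u4), (0, a), ?_, ?_, ?_⟩
    · rw [orderOf_injective _ (prodHom_injective _ _), Prod.orderOf, refl_order _ hyp2_nondeg,
        two_power_order u4 h4 le_rfl (by norm_num : 2 ^ 1 ≤ 3) fun h => h3 (by rw [h]; rfl)]
      rfl
    · rw [par_prodHom, par_refl hyp2_nondeg, hpar]
      decide
    · rw [show (2 : ℕ) ^ 2 - 1 = 3 from rfl, prodHom_sub_one_pow]
      exact fun h => h3 (congrArg Prod.snd h)

end CfsgLib.HallGen.SpEightSpectrum
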