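import Cfsg.Agent.Lib.HallGen.SpEightSpectrum.Elements

/-!
# All twelve orders occur in `O⁻(8, 2^k)` and in `V ⋊ Ω⁻(8, 2^k)`
-/

set_option autoImplicit false

namespace CfsgLib.HallGen.SpEightSpectrum

open Module Polynomial
open QuadraticMap (polar polarBilin)
open CfsgLib.Classical CfsgLib.Classical.Quad CfsgLib.Classical.CharTwo CfsgLib.Known.OmegaCriterion
open CfsgLib.HallGen.PrimeGraphBC (prodHom conjHom prodHom_injective conjHom_injective nondeg_prod oEnd oEnd_injective)

variable {F : Type*} [Field F] [CharP F 2] [Fintype F]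

local notation "qq" => Fintype.card F

variable {U : Type*} [AddCommGroup U] [Module F U]

/-- An order realised by an isometry, and by an even one up to a translation. -/
def Realised (Q : QuadraticForm F U) (L : ℕ) : Prop :=
  (∃ x : OQ Q, L ∣ orderOf x) ∧
    ∃ x : OQ Q, par x = 0 ∧ (L ∣ orderOf x ∨
      (L ∣ 2 * orderOf x ∧ ∃ v, (∑ i ∈ Finset.range (orderOf x), oEnd Q x ^ i : Module.End F U) v ≠ 0))

theorem Realised.mono {Q : QuadraticForm F U} {L L' : ℕ} (h : Realised Q L) (hd : L' ∣ L) : Realised Q L' := by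
  obtain ⟨⟨x, hx⟩, y, hy, h | ⟨h, hv⟩⟩ := h
  · exact ⟨⟨x, hd.trans hx⟩, y, hy, Or.inl (hd.trans h)⟩
  · exact ⟨⟨x, hd.trans hx⟩, y, hy, Or.inr ⟨hd.trans h, hv⟩⟩

theorem geom_split {A : Type*} [Semiring A] [Algebra F A] (T : A) (j M : ℕ) :
    (∑ i ∈ Finset.range (2 ^ j * M), T ^ i) =
      aeval T ((X - 1 : F[X]) ^ (2 ^ j - 1)) * ∑ i ∈ Finset.range M, (T ^ 2 ^ j) ^ i := by
  haveI := Fact.mk Nat.prime_two
  have hne : (X - 1 : F[X]) ≠ 0 := by simpa using X_sub_C_ne_zero (1 : F)
  have h : (∑ i ∈ Finset.range (2 ^ j * M), (X : F[X]) ^ i) =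
      (X - 1) ^ (2 ^ j - 1) * ∑ i ∈ Finset.range M, ((X : F[X]) ^ 2 ^ j) ^ i := by
    refine mul_right_cancel₀ hne ?_
    rw [geom_sum_mul, mul_right_comm, ← pow_succ, Nat.sub_add_cancel Nat.one_le_two_pow, sub_pow_char_pow,
      one_pow, mul_geom_sum, ← pow_mul]
  simpa using congrArg (aeval T) h

theorem par_odd [FiniteDimensional F U] {Q : QuadraticForm F U} (hQ : (polarBilin Q).Nondegenerate)
    (hR : reflGroup Q = ⊤) {x : OQ Q} (hx : Odd (orderOf x)) : par x = 0 := by
  have h : ∀ k : ℕ, par (x ^ k) = k • par x := fun k => by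
    induction k with
    | zero => rw [pow_zero, zero_smul, par_one hQ]
    | succ k ih => rw [pow_succ, par_mul hQ hR, ih, succ_nsmul]
  have h1 := h (orderOf x)
  rw [pow_orderOf_eq_one, par_one hQ] at h1
  obtain ⟨c, hc⟩ := hx
  rw [hc, succ_nsmul, mul_comm, mul_smul, two_nsmul, CharTwo.add_self_eq_zero, smul_zero, zero_add] at h1
  exact h1.symm

variable [FiniteDimensional F U] [Fintype U] {Q : QuadraticForm F U}
variable {V W : Type*} [AddCommGroup V] [Module F V] [FiniteDimensional F V] [Fintype V]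
variable [AddCommGroup W] [Module F W] [FiniteDimensional F W] [Fintype W]

/-- An odd order occurring in any form of the same dimension and sign. -/
theorem real_odd (hQ : (polarBilin Q).Nondegenerate) (hR : reflGroup Q = ⊤) {R : QuadraticForm F V}
    (hV : (polarBilin R).Nondegenerate) (hd : finrank F V = finrank F U) (hs : signSum ⇑R = signSum ⇑Q)
    (g : OQ R) {L : ℕ} (hg : orderOf g = L) (hL : Odd L) : Realised Q L := by
  obtain ⟨E, hE⟩ := exists_equiv hV hQ hd hs
  have ho : orderOf (conjHom E 1 hE g) = L := (orderOf_injective _ (conjHom_injective E 1 hE) g).trans hg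
  exact ⟨⟨_, ho.symm.dvd⟩, _, par_odd hQ hR (ho.symm ▸ hL), Or.inl ho.symm.dvd⟩

/-- An odd order times a unipotent tail. -/
theorem real_tail (hQ : (polarBilin Q).Nondegenerate) (hR : reflGroup Q = ⊤) {R₁ : QuadraticForm F V}
    {R₂ : QuadraticForm F W} (h₁ : (polarBilin R₁).Nondegenerate) (h₂ : (polarBilin R₂).Nondegenerate)
    (hd : finrank F V + finrank F W = finrank F U) (hs : signSum ⇑R₁ * signSum ⇑R₂ = signSum ⇑Q)
    (g : OQ R₁) {M : ℕ} (hg : orderOf g = M) (hM : Odd M) {j : ℕ} (ht : HasTail R₂ j) :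
    Realised Q (M * 2 ^ (j + 1)) := by
  obtain ⟨⟨u', hu'⟩, u, w, hu, hpu, hw⟩ := ht
  obtain ⟨E, hE⟩ := exists_equiv (nondeg_prod h₁ h₂) hQ (by rw [Module.finrank_prod, hd])
    (by rw [signSum_prod, hs])
  let ψ : OQ R₁ × OQ R₂ →* OQ Q := (conjHom E 1 hE).comp (prodHom R₁ R₂)
  have hψ : Function.Injective ψ := (conjHom_injective E 1 hE).comp (prodHom_injective R₁ R₂)
  have hpar : ∀ a b, par (ψ (a, b)) = par a + par b := fun a b =>
    (par_conjHom E 1 hE _).trans (par_prodHom R₁ R₂ a b)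
  have hcop : ∀ k, M.Coprime (2 ^ k) := fun k => (Nat.coprime_two_right.2 hM).pow_right k
  have hpg : par g = 0 := by
    have h := par_odd hQ hR (x := ψ (g, 1)) (by
      rw [orderOf_injective ψ hψ, Prod.orderOf]
      simpa [hg] using hM)
    rwa [hpar, par_one h₂, add_zero] at h
  have ho : orderOf (ψ (g, u)) = 2 ^ j * M := by
    rw [orderOf_injective ψ hψ, Prod.orderOf, hg, hu, (hcop j).lcm_eq_mul, mul_comm]
  refine ⟨⟨ψ (g, u'), ?_⟩, ψ (g, u), by rw [hpar, hpg, hpu, add_zero], Or.inr ⟨?_, E (0, w), ?_⟩⟩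
  · rw [orderOf_injective ψ hψ, Prod.orderOf, hg, hu', (hcop _).lcm_eq_mul]
  · rw [ho, pow_succ]
    exact dvd_of_eq (by ring)
  · rw [ho, geom_split (F := F)]
    set T := oEnd Q (ψ (g, u)) with hT
    have hTE : ∀ z : W, T (E (0, z)) = E (0, oEnd R₂ u z) := fun z => by
      show E ((prodHom R₁ R₂ (g, u) : (V × W) ≃ₗ[F] (V × W)) (E.symm (E (0, z)))) = _
      rw [E.symm_apply_apply]
      exact congrArg E (Prod.ext (map_zero (g : V ≃ₗ[F] V)) rfl)
    have hpow : ∀ (k : ℕ) (z : W), (T ^ k) (E (0, z)) = E (0, (oEnd R₂ u ^ k) z) := fun k => by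
      induction k with
      | zero => intro z; rfl
      | succ k ih => intro z; rw [pow_succ, pow_succ, Module.End.mul_apply, Module.End.mul_apply, hTE, ih]
    have hpow' : ∀ (k : ℕ) (z : W), ((T - 1) ^ k) (E (0, z)) = E (0, ((oEnd R₂ u - 1) ^ k) z) := fun k => by
      induction k with
      | zero => intro z; rfl
      | succ k ih =>
        intro z
        rw [pow_succ, pow_succ, Module.End.mul_apply, Module.End.mul_apply, ← ih]
        congr 1
        rw [LinearMap.sub_apply, LinearMap.sub_apply, Module.End.one_apply, Module.End.one_apply, hTE, ← map_sub]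
        simp
    have hfix : (∑ i ∈ Finset.range M, (T ^ 2 ^ j) ^ i) (E (0, w)) = E (0, w) := by
      rw [LinearMap.sum_apply]
      have e : ∀ i, ((T ^ 2 ^ j) ^ i) (E (0, w)) = E (0, w) := fun i => by
        rw [← pow_mul, hpow, pow_mul, ← map_pow, ← hu, pow_orderOf_eq_one, map_one, one_pow]
        rfl
      rw [Finset.sum_congr rfl fun i _ => e i, Finset.sum_const, Finset.card_range]
      obtain ⟨c, hc⟩ := hM
      rw [hc, succ_nsmul, mul_comm, mul_smul, two_nsmul, ← two_smul F (E (0, w)), CharTwo.two_eq_zero, zero_smul,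
        smul_zero, zero_add]
    rw [Module.End.mul_apply, hfix, map_pow, map_sub, aeval_X, map_one, hpow']
    intro h
    refine hw ?_
    have h1 : ((0 : V), ((oEnd R₂ u - 1) ^ (2 ^ j - 1) : Module.End F W) w) = 0 := E.injective (h.trans (map_zero E).symm)
    exact congrArg Prod.snd h1

omit [CharP F 2] in
theorem even_card [CharP F 2] : Even qq := by
  obtain ⟨n, -, hn⟩ := FiniteField.card F 2
  exact hn ▸ even_iff_two_dvd.2 (dvd_pow_self 2 n.pos.ne')

theorem odd_blockOrder {d : ℕ} (hd : 1 ≤ d) (b : Bool) : Odd (blockOrder qq d b) := by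
  have he : Even (qq ^ d) := Nat.even_pow.2 ⟨even_card, by omega⟩
  have := Nat.one_le_pow d qq Fintype.card_pos
  cases b
  · show Odd (qq ^ d - 1)
    exact Nat.Even.sub_odd this he odd_one
  · exact he.add_one

/-- Every member of the covering list is realised in a minus form of dimension eight. -/
theorem realised_max {a b : F} (hab : ∀ z₁ z₂ : F, z₁ ^ 2 + a * z₁ * z₂ + b * z₂ ^ 2 = 0 → z₁ = 0 ∧ z₂ = 0) :
    ∀ L ∈ maxOrders qq, Realised (qMinus 3 F a b) L := by
  classical
  have hQ := qMinus_nondeg hab 3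
  have hR : reflGroup (qMinus 3 F a b) = ⊤ := reflGroup_qMinus_eq_top hab 3
  have hU : finrank F ((Fin 3 ⊕ Fin 3) ⊕ Fin 2 → F) = 8 := by simp
  have hsU : signSum ⇑(qMinus 3 F a b) = -(qq : ℤ) ^ 4 := signSum_qMinus hab 3
  have h2 := even_card (F := F)
  have hdiff : ∀ {A B : ℕ}, Odd A → B ∣ A + 2 → Nat.Coprime A B := fun {A B} hA hB => by
    refine Nat.Coprime.coprime_dvd_right hB ?_
    rw [Nat.coprime_self_add_right]
    exact Nat.coprime_two_right.2 hA
  have pairOdd : ∀ (d e : ℕ) (σ τ : Bool), 1 ≤ d → 1 ≤ e → d + e = 4 →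
      blockSign qq d σ * blockSign qq e τ = -(qq : ℤ) ^ 4 →
      Nat.Coprime (blockOrder qq d σ) (blockOrder qq e τ) →
      Realised (qMinus 3 F a b) (blockOrder qq d σ * blockOrder qq e τ) := by
    intro d e σ τ hd he hde hsgn hcop
    obtain ⟨R₁, h₁, hs₁, g₁, hg₁⟩ := exists_block (F := F) hd σ
    obtain ⟨R₂, h₂, hs₂, g₂, hg₂⟩ := exists_block (F := F) he τ
    refine real_odd hQ hR (nondeg_prod h₁ h₂) (by rw [Module.finrank_prod, hU]; simp; omega)
      (by rw [signSum_prod, hs₁, hs₂, hsU, hsgn]) (prodHom R₁ R₂ (g₁, g₂)) ?_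
      ((odd_blockOrder hd σ).mul (odd_blockOrder he τ))
    rw [orderOf_injective _ (prodHom_injective _ _), Prod.orderOf, hg₁, hg₂, hcop.lcm_eq_mul]
  have headTwo : ∀ τ : Bool, Realised (qMinus 3 F a b) (2 * ((qq ^ 2 + 1) * blockOrder qq 1 τ)) := by
    intro τ
    obtain ⟨R₁, h₁, hs₁, g₁, hg₁⟩ := exists_block (F := F) (show 1 ≤ 2 by norm_num) true
    obtain ⟨R₂, h₂, hs₂, g₂, hg₂⟩ := exists_block (F := F) le_rfl τ
    obtain ⟨P, hP, hPs, -⟩ := exists_block (F := F) le_rfl τ
    have hb : blockOrder qq 1 τ ∣ qq ^ 2 - 1 := by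
      rw [sq_sub_one]
      cases τ <;> simp [blockOrder]
    have hcop : Nat.Coprime (qq ^ 2 + 1) (blockOrder qq 1 τ) := by
      refine Nat.Coprime.coprime_dvd_right hb (hdiff (odd_blockOrder (show 1 ≤ 2 by norm_num) false) ?_).symm
      have := Nat.one_le_pow 2 qq Fintype.card_pos
      show qq ^ 2 + 1 ∣ qq ^ 2 - 1 + 2
      rw [show qq ^ 2 - 1 + 2 = qq ^ 2 + 1 by omega]
    refine (real_tail hQ hR (nondeg_prod h₁ h₂) hP (by rw [Module.finrank_prod, hU]; simp) ?_
      (prodHom R₁ R₂ (g₁, g₂)) (M := (qq ^ 2 + 1) * blockOrder qq 1 τ) ?_ ?_ (tail_one P hP)).mono ?_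
    · rw [signSum_prod, hs₁, hs₂, hPs, hsU]
      cases τ <;> simp [blockSign] <;> ring
    · rw [orderOf_injective _ (prodHom_injective _ _), Prod.orderOf, hg₁, hg₂]
      exact hcop.lcm_eq_mul
    · exact (odd_blockOrder (show 1 ≤ 2 by norm_num) true).mul (odd_blockOrder le_rfl τ)
    · rw [mul_comm]
      simp
  have q1 := Nat.one_le_pow 1 qq Fintype.card_pos
  intro L hL
  simp only [maxOrders, List.mem_cons, List.not_mem_nil, or_false] at hL
  rcases hL with rfl | rfl | rfl | rfl | rfl | rfl | rfl | rfl | rfl | rfl | rfl | rfl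
  · obtain ⟨R, h, hs, g, hg⟩ := exists_block (F := F) (show 1 ≤ 4 by norm_num) true
    exact real_odd hQ hR h (by rw [hU]; simp) (hs.trans hsU.symm) g hg (odd_blockOrder (by norm_num) true)
  · refine (pairOdd 2 2 true false (by norm_num) (by norm_num) rfl (by simp [blockSign]; ring) ?_).mono ?_
    · refine (hdiff (odd_blockOrder (by norm_num) false) ?_).symm
      simp only [blockOrder]
      have := Nat.one_le_pow 2 qq Fintype.card_pos
      simp; rw [show qq ^ 2 - 1 + 2 = qq ^ 2 + 1 by omega]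
    · simp only [blockOrder, if_true]
      simp [← sq_sub_one, ← pow_mul]
  · refine (pairOdd 3 1 true false (by norm_num) le_rfl rfl (by simp [blockSign]; ring) ?_).mono (by simp [blockOrder])
    have h3 := Nat.one_le_pow 3 qq Fintype.card_pos
    refine Nat.Coprime.coprime_dvd_right (show blockOrder qq 1 false ∣ qq ^ 3 - 1 by
      simpa [blockOrder] using Nat.sub_one_dvd_pow_sub_one qq 3) ?_
    refine (hdiff (odd_blockOrder (show 1 ≤ 3 by norm_num) false) ?_).symm
    simp only [blockOrder]; simp; rw [show qq ^ 3 - 1 + 2 = qq ^ 3 + 1 by omega]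
  · refine (pairOdd 3 1 false true (by norm_num) le_rfl rfl (by simp [blockSign]; ring) ?_).mono (by simp [blockOrder])
    have h3 := Nat.one_le_pow 3 qq Fintype.card_pos
    refine hdiff (odd_blockOrder (show 1 ≤ 3 by norm_num) false) ?_
    simp only [blockOrder]; simp; rw [show qq ^ 3 - 1 + 2 = qq ^ 3 + 1 by omega]
    simpa using Odd.nat_add_dvd_pow_add_pow qq 1 (by decide : Odd 3)
  · obtain ⟨R, h, hs, g, hg⟩ := exists_block (F := F) (show 1 ≤ 3 by norm_num) true
    obtain ⟨P, hP, hPs, -⟩ := exists_block (F := F) le_rfl false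
    exact (real_tail hQ hR h hP (by rw [hU]; simp) (by rw [hs, hPs, hsU]; simp [blockSign]; ring) g hg
      (odd_blockOrder (by norm_num) true) (tail_one P hP)).mono (by simp [blockOrder, mul_comm])
  · obtain ⟨R, h, hs, g, hg⟩ := exists_block (F := F) (show 1 ≤ 3 by norm_num) false
    obtain ⟨P, hP, hPs, -⟩ := exists_block (F := F) le_rfl true
    exact (real_tail hQ hR h hP (by rw [hU]; simp) (by rw [hs, hPs, hsU]; simp [blockSign]; ring) g hg
      (odd_blockOrder (by norm_num) false) (tail_one P hP)).mono (by simp [blockOrder, mul_comm])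
  · simpa [blockOrder] using headTwo true
  · simpa [blockOrder] using headTwo false
  · obtain ⟨R, h, hs, g, hg⟩ := exists_block (F := F) (show 1 ≤ 2 by norm_num) true
    obtain ⟨P, hP, hPs, -⟩ := exists_block (F := F) le_rfl false
    exact (real_tail hQ hR h (nondeg_prod hyp2_nondeg hP) (by rw [hU]; simp)
      (by rw [hs, signSum_prod, signSum_hyp2, hPs, hsU]; simp [blockSign]; ring) g hg
      (odd_blockOrder (by norm_num) true) (tail_two P hP)).mono (by simp [blockOrder, mul_comm])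
  · obtain ⟨R, h, hs, g, hg⟩ := exists_block (F := F) (show 1 ≤ 2 by norm_num) false
    obtain ⟨P, hP, hPs, -⟩ := exists_block (F := F) le_rfl true
    exact (real_tail hQ hR h (nondeg_prod hyp2_nondeg hP) (by rw [hU]; simp)
      (by rw [hs, signSum_prod, signSum_hyp2, hPs, hsU]; simp [blockSign]; ring) g hg
      (odd_blockOrder (by norm_num) false) (tail_two P hP)).mono (by simp [blockOrder, mul_comm])
  · obtain ⟨R, h, hs, g, hg⟩ := exists_block (F := F) le_rfl true
    obtain ⟨P, hP, hPs, -⟩ := exists_block (F := F) le_rfl false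
    exact (real_tail hQ hR h (nondeg_prod hyp2_nondeg (nondeg_prod hyp2_nondeg hP)) (by rw [hU]; simp)
      (by rw [hs, signSum_prod, signSum_prod, signSum_hyp2, hPs, hsU]; simp [blockSign]; ring) g hg
      (odd_blockOrder le_rfl true) (tail_three P hP)).mono (by simp [blockOrder, mul_comm])
  · obtain ⟨R, h, hs, g, hg⟩ := exists_block (F := F) le_rfl false
    obtain ⟨P, hP, hPs, -⟩ := exists_block (F := F) le_rfl true
    exact (real_tail hQ hR h (nondeg_prod hyp2_nondeg (nondeg_prod hyp2_nondeg hP)) (by rw [hU]; simp)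
      (by rw [hs, signSum_prod, signSum_prod, signSum_hyp2, hPs, hsU]; simp [blockSign]; ring) g hg
      (odd_blockOrder le_rfl false) (tail_three P hP)).mono (by simp [blockOrder, mul_comm])

end CfsgLib.HallGen.SpEightSpectrum
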