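import Cfsg.Agent.Lib.HallGen.SpEightSpectrum.Exist
import Cfsg.Agent.Lib.HallGen.PrimeGraphBC.Symplectic

/-!
# The spectrum of `Sp(8, 2^k)`
-/

set_option autoImplicit false

namespace CfsgLib.HallGen.SpEightSpectrum

open Module
open QuadraticMap (polar polarBilin)
open CfsgLib.Classical CfsgLib.Classical.Quad CfsgLib.Classical.CharTwo CfsgLib.Known.OmegaCriterion
open CfsgLib.HallGen.PrimeGraphBC (oEnd oEnd_injective endHom_center endHom_preserves sympBil_refl mem_range_orderOf)
open CfsgLib.HallGen.SympSpectrum (endHom endHom_injective exists_hom_sp)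

variable {F : Type*} [Field F] [CharP F 2] [Fintype F]

local notation "qq" => Fintype.card F

theorem center_sp_eq_bot : Subgroup.center ↥(Matrix.symplecticGroup (Fin 4) F) = ⊥ := by
  refine (Subgroup.eq_bot_iff_forall _).2 fun z hz => endHom_injective ?_
  rw [map_one]
  rcases (endHom_center (by norm_num : 1 ≤ 4)).1 hz with h | h
  · exact h
  · rw [h]
    refine LinearMap.ext fun v => ?_
    show -v = v
    rw [neg_eq_iff_add_eq_zero, ← two_smul F v, CharTwo.two_eq_zero, zero_smul]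

theorem orderOf_psp (g : ↥(Matrix.symplecticGroup (Fin 4) F)) :
    orderOf (QuotientGroup.mk g : Cfsg.PSp 4 F) = orderOf g :=
  orderOf_injective (QuotientGroup.mk' (Subgroup.center ↥(Matrix.symplecticGroup (Fin 4) F)))
    ((MonoidHom.ker_eq_bot_iff _).1 (by rw [QuotientGroup.ker_mk', center_sp_eq_bot])) g

theorem finite_OQ {V : Type*} [AddCommGroup V] [Module F V] [Finite V] (Q : QuadraticForm F V) : Finite (OQ Q) :=
  Finite.of_injective (fun x => ⇑(oEnd Q x)) fun _ _ h => oEnd_injective (DFunLike.coe_injective h)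

variable {a b : F}

theorem range_psp (hab : ∀ z₁ z₂ : F, z₁ ^ 2 + a * z₁ * z₂ + b * z₂ ^ 2 = 0 → z₁ = 0 ∧ z₂ = 0) :
    Set.range (orderOf : Cfsg.PSp 4 F → ℕ) = {n | Covered qq n} := by
  have hQ := qMinus_nondeg hab 3
  refine Set.Subset.antisymm ?_ ?_
  · rintro _ ⟨g, rfl⟩
    obtain ⟨x, rfl⟩ := QuotientGroup.mk_surjective g
    rw [orderOf_psp]
    have h := (cover (Symp.sympBil 4 F) (Symp.sympBil_nondegenerate 4 F).1 sympBil_refl
      (by rw [Symp.finrank_sympSpace]) (endHom 4 F x) (endHom_preserves x)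
      (by rw [orderOf_injective _ endHom_injective]; exact orderOf_pos x)).1
    rw [orderOf_injective _ endHom_injective, Nat.card_eq_fintype_card] at h
    exact h
  · rintro n ⟨L, hL, hn⟩
    obtain ⟨⟨x, hx⟩, -⟩ := realised_max hab L hL
    let ρ : OQ (qMinus 3 F a b) →* (((Fin 3 ⊕ Fin 3) ⊕ Fin 2 → F) ≃ₗ[F] ((Fin 3 ⊕ Fin 3) ⊕ Fin 2 → F)) :=
      (OQ (qMinus 3 F a b)).subtype
    obtain ⟨φ, hφ, -⟩ := exists_hom_sp (polarBilin (qMinus 3 F a b)) (polarBilin_isAlt _) hQ (m := 4) (by simp) ρ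
      (fun g u v => OQ.map_polar g u v)
    have hinj : Function.Injective φ := (injective_iff_map_eq_one φ).2 fun g hg =>
      Subtype.ext ((hφ g).1 hg)
    refine mem_range_orderOf (x := (QuotientGroup.mk (φ x) : Cfsg.PSp 4 F)) ?_
    rw [orderOf_psp, orderOf_injective φ hinj]
    exact hn.trans hx

theorem range_orth (hab : ∀ z₁ z₂ : F, z₁ ^ 2 + a * z₁ * z₂ + b * z₂ ^ 2 = 0 → z₁ = 0 ∧ z₂ = 0) :
    Set.range (orderOf : OQ (qMinus 3 F a b) → ℕ) = {n | Covered qq n} := by
  haveI : Finite (OQ (qMinus 3 F a b)) := finite_OQ _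
  refine Set.Subset.antisymm ?_ ?_
  · rintro _ ⟨x, rfl⟩
    have h := (cover (polarBilin (qMinus 3 F a b)) (qMinus_nondeg hab 3).1
      (fun u v h => (QuadraticMap.polar_comm _ v u).trans h) (by simp) (oEnd _ x) (fun u v => OQ.map_polar x u v)
      (by rw [orderOf_injective _ oEnd_injective]; exact orderOf_pos x)).1
    rw [orderOf_injective _ oEnd_injective, Nat.card_eq_fintype_card] at h
    exact h
  · rintro n ⟨L, hL, hn⟩
    obtain ⟨⟨x, hx⟩, -⟩ := realised_max hab L hL
    exact mem_range_orderOf (hn.trans hx)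

theorem exists_anisotropic :
    ∃ a b : F, ∀ z₁ z₂ : F, z₁ ^ 2 + a * z₁ * z₂ + b * z₂ ^ 2 = 0 → z₁ = 0 ∧ z₂ = 0 := by
  obtain ⟨c, hc⟩ := exists_psi_neg (F := F)
  refine ⟨1, c, fun z₁ z₂ h => ?_⟩
  by_cases h2 : z₂ = 0
  · subst h2
    simpa using h
  exfalso
  have h1 : psi c = 1 := psi_eq_one_iff.2 ⟨z₁ / z₂, by
    field_simp
    linear_combination h - CharTwo.add_self_eq_zero (c * z₂ ^ 2)⟩
  rw [hc] at h1
  norm_num at h1

variable {V : Type*} [AddCommGroup V] [Module F V]

/-- The natural semidirect product with the even isometries. -/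
noncomputable def actHom (Q : QuadraticForm F V) : ↥(commutator (OQ Q)) →* MulAut (Multiplicative V) where
  toFun g := AddEquiv.toMultiplicative ((g.1 : V ≃ₗ[F] V).toAddEquiv)
  map_one' := rfl
  map_mul' _ _ := rfl

theorem translation_pow (Q : QuadraticForm F V) (x : Multiplicative V ⋊[actHom Q] ↥(commutator (OQ Q))) (k : ℕ) :
    (x ^ k).right = x.right ^ k ∧
      (x ^ k).left = Multiplicative.ofAdd
        ((∑ i ∈ Finset.range k, oEnd Q (x.right : OQ Q) ^ i : Module.End F V) x.left.toAdd) := by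
  induction k with
  | zero => exact ⟨by simp, by simp⟩
  | succ k ih =>
    obtain ⟨h1, h2⟩ := ih
    refine ⟨by rw [pow_succ, SemidirectProduct.mul_right, h1, pow_succ], ?_⟩
    rw [pow_succ, SemidirectProduct.mul_left, h1, h2, Finset.sum_range_succ, LinearMap.add_apply, ofAdd_add]
    congr 1
    show Multiplicative.ofAdd (oEnd Q ((x.right : OQ Q) ^ k) x.left.toAdd) = _
    rw [map_pow]

theorem translation_order (Q : QuadraticForm F V) (x : Multiplicative V ⋊[actHom Q] ↥(commutator (OQ Q))) :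
    ((∑ i ∈ Finset.range (orderOf x.right), oEnd Q (x.right : OQ Q) ^ i : Module.End F V) x.left.toAdd = 0 →
      orderOf x = orderOf x.right) ∧
    ((∑ i ∈ Finset.range (orderOf x.right), oEnd Q (x.right : OQ Q) ^ i : Module.End F V) x.left.toAdd ≠ 0 →
      0 < orderOf x.right → orderOf x = 2 * orderOf x.right) := by
  obtain ⟨h1, h2⟩ := translation_pow Q x (orderOf x.right)
  rw [pow_orderOf_eq_one] at h1
  have hdvd : orderOf x.right ∣ orderOf x := orderOf_map_dvd SemidirectProduct.rightHom x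
  refine ⟨fun h => Nat.dvd_antisymm (orderOf_dvd_of_pow_eq_one ?_) hdvd, fun h hpos => ?_⟩
  · exact SemidirectProduct.ext (by rw [h2, h]; rfl) h1
  · obtain ⟨k, hk⟩ := hdvd
    have hsq : x ^ (orderOf x.right * 2) = 1 := by
      rw [pow_mul, pow_two]
      refine SemidirectProduct.ext ?_ (by rw [SemidirectProduct.mul_right, h1]; simp)
      rw [SemidirectProduct.mul_left, h1, map_one, MulAut.one_apply, h2, ← ofAdd_add, ← two_smul F,
        CharTwo.two_eq_zero, zero_smul]
      rfl
    have hk2 : k ∣ 2 := Nat.dvd_of_mul_dvd_mul_left hpos (hk ▸ orderOf_dvd_of_pow_eq_one hsq)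
    rcases (Nat.dvd_prime Nat.prime_two).1 hk2 with rfl | rfl
    · exfalso
      rw [mul_one] at hk
      refine h ?_
      have := congrArg SemidirectProduct.left (pow_orderOf_eq_one x)
      rw [hk, h2] at this
      exact Multiplicative.ofAdd.injective (this.trans ofAdd_zero.symm)
    · rw [hk, mul_comm]

theorem range_affine (hab : ∀ z₁ z₂ : F, z₁ ^ 2 + a * z₁ * z₂ + b * z₂ ^ 2 = 0 → z₁ = 0 ∧ z₂ = 0) :
    Set.range (orderOf :
      Multiplicative ((Fin 3 ⊕ Fin 3) ⊕ Fin 2 → F) ⋊[actHom (qMinus 3 F a b)]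
        ↥(commutator (OQ (qMinus 3 F a b))) → ℕ) = {n | Covered qq n} := by
  set Q := qMinus 3 F a b with hQdef
  have hQ := qMinus_nondeg hab 3
  have hR : reflGroup Q = ⊤ := reflGroup_qMinus_eq_top hab 3
  haveI : Finite (OQ Q) := finite_OQ _
  haveI : Finite (Multiplicative ((Fin 3 ⊕ Fin 3) ⊕ Fin 2 → F) ⋊[actHom Q] ↥(commutator (OQ Q))) :=
    Finite.of_equiv _ SemidirectProduct.equivProd.symm
  have hcoe : ∀ g : ↥(commutator (OQ Q)), orderOf (g : OQ Q) = orderOf g := Subgroup.orderOf_coe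
  refine Set.Subset.antisymm ?_ ?_
  · rintro _ ⟨x, rfl⟩
    set g := (x.right : OQ Q)
    have hc := cover (polarBilin Q) hQ.1 (fun u v h => (QuadraticMap.polar_comm _ v u).trans h) (by simp)
      (oEnd Q g) (fun u v => OQ.map_polar g u v)
      (by rw [orderOf_injective _ oEnd_injective]; exact orderOf_pos g)
    rw [orderOf_injective _ oEnd_injective, hcoe, Nat.card_eq_fintype_card] at hc
    obtain ⟨h0, h1⟩ := translation_order Q x
    by_cases h : (∑ i ∈ Finset.range (orderOf x.right), oEnd Q g ^ i :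
        Module.End F ((Fin 3 ⊕ Fin 3) ⊕ Fin 2 → F)) x.left.toAdd = 0
    · rw [h0 h]
      exact hc.1
    · rw [h1 h (orderOf_pos _)]
      refine hc.2 x.left.toAdd h ?_
      have hp := ((mem_commutator_iff hQ hR g).1 x.right.2).1
      have hmov : mov g = LinearMap.range (oEnd Q g - 1) := by
        show LinearMap.range (movMap g) = _
        rw [← LinearMap.range_neg (oEnd Q g - 1)]
        congr 1
        refine LinearMap.ext fun v => ?_
        show v - (g : _ ≃ₗ[F] _) v = -((g : _ ≃ₗ[F] _) v - v)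
        abel
      unfold par at hp
      rw [hmov, ZMod.natCast_eq_zero_iff_even] at hp
      have hrk := LinearMap.finrank_range_add_finrank_ker (oEnd Q g - 1)
      have h8 : finrank F ((Fin 3 ⊕ Fin 3) ⊕ Fin 2 → F) = 8 := by simp
      rw [h8] at hrk
      rw [Nat.even_iff] at hp ⊢
      omega
  · rintro n ⟨L, hL, hn⟩
    obtain ⟨-, y, hy, h⟩ := realised_max hab L hL
    have hmem : y ∈ commutator (OQ Q) :=
      (mem_commutator_iff hQ hR y).2 ⟨hy, spinor_of_two_eq_zero CharTwo.two_eq_zero y⟩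
    rcases h with h | ⟨h, v, hv⟩
    · refine mem_range_orderOf (x := SemidirectProduct.inr (⟨y, hmem⟩ : ↥(commutator (OQ Q)))) ?_
      rw [orderOf_injective _ SemidirectProduct.inr_injective, Subgroup.orderOf_mk]
      exact hn.trans h
    · refine mem_range_orderOf (x := ⟨Multiplicative.ofAdd v, ⟨y, hmem⟩⟩) (hn.trans (h.trans (dvd_of_eq ?_)))
      have h2 := (translation_order Q ⟨Multiplicative.ofAdd v, ⟨y, hmem⟩⟩).2
      rw [show orderOf (⟨y, hmem⟩ : ↥(commutator (OQ Q))) = orderOf y from Subgroup.orderOf_mk y hmem] at h2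
      exact (h2 hv (orderOf_pos y)).symm

end CfsgLib.HallGen.SpEightSpectrum
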